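import Cfsg.Agent.H209.EPX.Defs_m3
import Mathlib
import Cfsg.Agent.H528.EP.UB3_m3
import Cfsg.Agent.Schreier.Basic
import Cfsg.Agent.BpAlt.Row
import Cfsg.Agent.H290.ElCross
import Cfsg.Agent.H902.DomLU_m3
import Cfsg.Agent.Lib.ListFast
import Cfsg.Agent.Lib.NodupNat
import Cfsg.Agent.H357.EP.Signs_m3
import Cfsg.Agent.H341.ThreeList_m3
import Cfsg.Agent.Lib.FinFast
import Cfsg.Agent.FastGrp
import Cfsg.Agent.Prune
set_option linter.all false

section
prune_inst 0x7ffcfefd2fb8bddeffff7e7ffff5dffdf9f4ffffffdffbfbffedfbffbfff6b677bf5fba37fefd8ffaed7f09e32f87bd3f97eebbfeff3dc7ffffd5ff47fffff9ffffebd8b79f7bc3e1ffc6ffffbfbffbf7f3fffffffffffffffffffffffffffffffffffffffff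

-- part: H758/EPX/Str
section
prune_inst 0x2c0400220000001800002000206090000002004000010040040000408840200548010060051200320c4000028068100000004038000020008800000000000422404080081000210000404004080c00000000000000000000000000000000000000000
set_option linter.all false
open scoped Cfsg.Agent.FastGrp

/-!
# S5745, `k ≥ 2`: the structure of the two-point stabilisers, part 1

`EPS H N e`, `e : N ≃* (Fin k → T)`, `M = H ∩ H^x`.
* `inj e i : T →* G`, `fc e i` : the factors `T_i` of `N`;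
* `exists_perm`, `EPS.trans` : `H` permutes the factors transitively, and so does every `M` (`EPS.transM`);
* `EPS.fc_not_le` : `T_i ≰ M`;
* `Kt e x i` : the subgroup `M ∩ T_i` as a subgroup of `T`;
* `EPS.locK` : if some `M ∩ T_i ≠ 1` then all, and `N_T(Y) ≤ M ∩ T_i` for all characteristic `1 ≠ Y ≤ M ∩ T_i`;
* `EPS.mem_iff_norm` : `M` is the normaliser in `H` of the product of the `M ∩ T_i`; it is determined by them.
-/

set_option autoImplicit false
set_option linter.unusedSectionVars false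

namespace Cfsg.Agent.H758.EPX

open Subgroup Cfsg.Agent.H284 Cfsg.Agent.H209.EPX

universe u

variable {G : Type u} [Group G] {H N : Subgroup G} {T : Type} [Group T] {k : ℕ}

/-- the embedding of `T` as the `i`-th factor -/
def inj (e : N ≃* (Fin k → T)) (i : Fin k) : T →* G :=
  N.subtype.comp (e.symm.toMonoidHom.comp (MonoidHom.mulSingle (fun _ : Fin k => T) i))

/-- the `i`-th factor -/
def fc (e : N ≃* (Fin k → T)) (i : Fin k) : Subgroup G := (inj e i).range

variable (e : N ≃* (Fin k → T))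

theorem inj_apply (i : Fin k) (t : T) : inj e i t = ((e.symm (Pi.mulSingle i t) : N) : G) := rfl

theorem inj_mem_N (i : Fin k) (t : T) : inj e i t ∈ N := (e.symm (Pi.mulSingle i t)).2

theorem e_inj (i : Fin k) (t : T) : e ⟨inj e i t, inj_mem_N e i t⟩ = Pi.mulSingle i t := by
  have : (⟨inj e i t, inj_mem_N e i t⟩ : N) = e.symm (Pi.mulSingle i t) := rfl
  rw [this, e.apply_symm_apply]

theorem inj_injective (i : Fin k) : Function.Injective (inj e i) := by
  intro a b h
  have h1 := e_inj e i a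
  have h2 := e_inj e i b
  have h3 : (⟨inj e i a, inj_mem_N e i a⟩ : N) = ⟨inj e i b, inj_mem_N e i b⟩ := Subtype.ext h
  rw [h3, h2] at h1
  have h4 := congrFun h1 i
  rw [Pi.mulSingle_eq_same, Pi.mulSingle_eq_same] at h4
  exact h4.symm

theorem inj_mem (i : Fin k) (t : T) : inj e i t ∈ fc e i := ⟨t, rfl⟩

theorem fc_le (i : Fin k) : fc e i ≤ N := by
  rintro _ ⟨t, rfl⟩
  exact inj_mem_N e i t

theorem inj_comm {i j : Fin k} (hij : i ≠ j) (s t : T) : inj e i s * inj e j t = inj e j t * inj e i s := by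
  have h : (e.symm (Pi.mulSingle i s) : N) * e.symm (Pi.mulSingle j t) =
      e.symm (Pi.mulSingle j t) * e.symm (Pi.mulSingle i s) := by
    rw [← map_mul, ← map_mul]
    congr 1
    exact Pi.mulSingle_commute (f := fun _ : Fin k => T) hij s t
  exact congrArg Subtype.val h

theorem fc_comm {i j : Fin k} (hij : i ≠ j) {a b : G} (ha : a ∈ fc e i) (hb : b ∈ fc e j) : a * b = b * a := by
  obtain ⟨s, rfl⟩ := ha
  obtain ⟨t, rfl⟩ := hb
  exact inj_comm e hij s t

/-- conjugating a factor by `n ∈ N` -/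
theorem conj_inj (n : N) (i : Fin k) (t : T) : (n : G) * inj e i t * (n : G)⁻¹ = inj e i (e n i * t * (e n i)⁻¹) := by
  have h : n * e.symm (Pi.mulSingle i t) * n⁻¹ = e.symm (Pi.mulSingle i (e n i * t * (e n i)⁻¹)) := by
    apply e.injective
    rw [map_mul, map_mul, e.apply_symm_apply, e.apply_symm_apply, map_inv]
    funext j
    by_cases hj : j = i
    · subst hj
      simp
    · simp [Pi.mulSingle_eq_of_ne hj]
  exact congrArg Subtype.val h

theorem cj_fc {n : G} (hn : n ∈ N) (i : Fin k) : cj n (fc e i) = fc e i := by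
  have h : ∀ n : G, n ∈ N → cj n (fc e i) ≤ fc e i := by
    rintro n hn _ ⟨_, ⟨t, rfl⟩, rfl⟩
    exact ⟨_, (conj_inj e ⟨n, hn⟩ i t).symm⟩
  refine le_antisymm (h n hn) ?_
  have := cj_mono (x := n) (h n⁻¹ (N.inv_mem hn))
  rwa [cj_cj_inv] at this

/-- `N` is the product of the factors -/
theorem N_le_iSup : N ≤ ⨆ i, fc e i := by
  intro n hn
  have h : ∀ (S : Finset (Fin k)) (f : Fin k → T), (∀ i, i ∉ S → f i = 1) → ((e.symm f : N) : G) ∈ ⨆ i, fc e i := by
    intro S
    induction S using Finset.induction with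
    | empty =>
      intro f hf
      have : f = 1 := funext fun i => hf i (by simp)
      rw [this, map_one]
      exact one_mem _
    | insert a S ha ih =>
      intro f hf
      have h1 : f = Pi.mulSingle a (f a) * (fun i => if i = a then 1 else f i) := by
        funext i
        by_cases hi : i = a
        · subst hi; simp
        · simp [hi]
      rw [h1, map_mul, Subgroup.coe_mul]
      refine mul_mem (Subgroup.mem_iSup_of_mem a (inj_mem e a _)) (ih _ ?_)
      intro i hi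
      by_cases hia : i = a
      · simp [hia]
      · simp only [hia, if_false]
        exact hf i (by simp [hia, hi])
  have := h Finset.univ (e ⟨n, hn⟩) (fun i hi => absurd (Finset.mem_univ i) hi)
  rwa [e.symm_apply_apply] at this

theorem iSup_fc : (⨆ i, fc e i) = N := le_antisymm (iSup_le fun i => fc_le e i) (N_le_iSup e)

/-- a nontrivial subgroup of `N` normalised by `N` contains a factor -/
theorem exists_fc_le (hs : IsSimpleGroup T) (hna : ∃ a b : T, a * b ≠ b * a) {K : Subgroup G} (hK : K ≤ N)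
    (hn : ∀ n ∈ N, ∀ x ∈ K, n * x * n⁻¹ ∈ K) (hne : K ≠ ⊥) : ∃ i, fc e i ≤ K := by
  obtain ⟨x, hx, hx1⟩ := K.bot_or_exists_ne_one.resolve_left hne
  -- a nontrivial coordinate
  obtain ⟨i, hi⟩ : ∃ i, e ⟨x, hK hx⟩ i ≠ 1 := by
    by_contra hcon
    push Not at hcon
    apply hx1
    have h1 : e ⟨x, hK hx⟩ = 1 := funext hcon
    exact congrArg Subtype.val ((map_eq_one_iff e e.injective).mp h1)
  refine ⟨i, ?_⟩
  -- `T` has trivial centre
  have hcent : Subgroup.center T = ⊥ := by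
    rcases hs.eq_bot_or_eq_top_of_normal (Subgroup.center T) inferInstance with h | h
    · exact h
    · exfalso
      obtain ⟨a, b, hab⟩ := hna
      apply hab
      have : b ∈ Subgroup.center T := by rw [h]; trivial
      exact Subgroup.mem_center_iff.mp this a
  obtain ⟨t, ht⟩ : ∃ t : T, e ⟨x, hK hx⟩ i * t ≠ t * e ⟨x, hK hx⟩ i := by
    by_contra hcon
    push Not at hcon
    apply hi
    have : e ⟨x, hK hx⟩ i ∈ Subgroup.center T := Subgroup.mem_center_iff.mpr (fun g => (hcon g).symm)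
    rwa [hcent, Subgroup.mem_bot] at this
  -- the subgroup of `T`
  let L : Subgroup T := K.comap (inj e i)
  have hLn : L.Normal := by
    constructor
    intro a ha g
    change inj e i (g * a * g⁻¹) ∈ K
    rw [map_mul, map_mul, map_inv]
    exact hn _ (inj_mem_N e i g) _ ha
  have hL : L ≠ ⊥ := by
    intro h
    have h1 : e ⟨x, hK hx⟩ i * t * (e ⟨x, hK hx⟩ i)⁻¹ * t⁻¹ ∈ L := by
      change inj e i _ ∈ K
      rw [map_mul, ← conj_inj e ⟨x, hK hx⟩ i t, map_inv]
      have h2 : x * inj e i t * x⁻¹ * (inj e i t)⁻¹ = x * (inj e i t * x⁻¹ * (inj e i t)⁻¹) := by group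
      change x * inj e i t * x⁻¹ * (inj e i t)⁻¹ ∈ K
      rw [h2]
      exact K.mul_mem hx (hn _ (inj_mem_N e i t) _ (K.inv_mem hx))
    rw [h, Subgroup.mem_bot] at h1
    apply ht
    have h3 : e ⟨x, hK hx⟩ i * t = (e ⟨x, hK hx⟩ i * t * (e ⟨x, hK hx⟩ i)⁻¹ * t⁻¹) * (t * e ⟨x, hK hx⟩ i) := by group
    rw [h3, h1, one_mul]
  have hLt : L = ⊤ := (hs.eq_bot_or_eq_top_of_normal L hLn).resolve_left hL
  rintro _ ⟨s, rfl⟩
  have : s ∈ L := by rw [hLt]; trivial
  exact this

theorem fc_ne_bot (hs : IsSimpleGroup T) (i : Fin k) : fc e i ≠ ⊥ := by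
  intro h
  have := hs.toNontrivial
  obtain ⟨t, ht⟩ := exists_ne (1 : T)
  apply ht
  apply inj_injective e i
  have h1 := inj_mem e i t
  rw [h, Subgroup.mem_bot] at h1
  rw [h1, map_one]

theorem fc_disj {i j : Fin k} (hij : i ≠ j) {x : G} (hi : x ∈ fc e i) (hj : x ∈ fc e j) : x = 1 := by
  obtain ⟨s, rfl⟩ := hi
  obtain ⟨t, ht⟩ := hj
  have h1 := e_inj e i s
  have h2 := e_inj e j t
  have h3 : (⟨inj e j t, inj_mem_N e j t⟩ : N) = ⟨inj e i s, inj_mem_N e i s⟩ := Subtype.ext ht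
  rw [h3, h1] at h2
  have h4 := congrFun h2 i
  rw [Pi.mulSingle_eq_same, Pi.mulSingle_eq_of_ne hij] at h4
  rw [h4, map_one]

theorem fc_injective (hs : IsSimpleGroup T) : Function.Injective (fc e) := by
  intro i j h
  by_contra hij
  apply fc_ne_bot e hs i
  rw [Subgroup.eq_bot_iff_forall]
  intro x hx
  exact fc_disj e hij hx (h ▸ hx)

section perm

variable {e}

/-- an element normalising `N` permutes the factors -/
theorem exists_cj [Finite G] (hs : IsSimpleGroup T) (hna : ∃ a b : T, a * b ≠ b * a) {g : G} (hg : cj g N = N) (i : Fin k) :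
    ∃ j, cj g (fc e i) = fc e j := by
  have hle : cj g (fc e i) ≤ N := (cj_mono (fc_le e i)).trans hg.le
  obtain ⟨j, hj⟩ := exists_fc_le e hs hna hle (by
    intro n hn x hx
    rw [mem_cj] at hx ⊢
    have hn' : g⁻¹ * n * g ∈ N := mem_cj.1 (hg.ge hn)
    have h1 := conj_mem_cj (x := g⁻¹ * n * g) hx
    rw [cj_fc e hn'] at h1
    have h2 : g⁻¹ * (n * x * n⁻¹) * g = g⁻¹ * n * g * (g⁻¹ * x * g) * (g⁻¹ * n * g)⁻¹ := by group
    rw [h2]
    exact h1) (by
    rw [Ne, cj_eq_bot_iff]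
    exact fc_ne_bot e hs i)
  refine ⟨j, (Subgroup.eq_of_le_of_card_ge hj ?_).symm⟩
  rw [card_cj]
  have h1 : Nat.card (fc e i) = Nat.card T := Nat.card_congr (MonoidHom.ofInjective (inj_injective e i)).toEquiv.symm
  have h2 : Nat.card (fc e j) = Nat.card T := Nat.card_congr (MonoidHom.ofInjective (inj_injective e j)).toEquiv.symm
  rw [h1, h2]

theorem cj_N (h : EPS H N e) {g : G} (hg : g ∈ H) : cj g N = N := by
  have h1 : ∀ g ∈ H, cj g N ≤ N := by
    rintro g hg _ ⟨n, hn, rfl⟩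
    exact h.nrm g hg n hn
  refine le_antisymm (h1 g hg) ?_
  have := cj_mono (x := g) (h1 g⁻¹ (H.inv_mem hg))
  rwa [cj_cj_inv] at this

theorem EPS.exists_cj [Finite G] (h : EPS H N e) {g : G} (hg : g ∈ H) (i : Fin k) : ∃ j, cj g (fc e i) = fc e j :=
  Cfsg.Agent.H758.EPX.exists_cj h.simple h.nab (cj_N h hg) i

/-- the product of the factors in a set -/
theorem mem_comm_iSup {S : Set (Fin k)} {i : Fin k} (hi : i ∉ S) {a b : G} (ha : a ∈ fc e i) (hb : b ∈ ⨆ j ∈ S, fc e j) :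
    a * b = b * a := by
  have hle : (⨆ j ∈ S, fc e j) ≤ Subgroup.centralizer ({a} : Set G) := by
    refine iSup₂_le fun j hj => ?_
    intro x hx
    rw [Subgroup.mem_centralizer_singleton_iff]
    have hij : i ≠ j := by
      rintro rfl
      exact hi hj
    exact (fc_comm e hij ha hx).symm
  exact (Subgroup.mem_centralizer_singleton_iff.mp (hle hb)).symm

/-- `H` is transitive on the factors -/
theorem EPS.trans [Finite G] (h : EPS H N e) (i j : Fin k) : ∃ g ∈ H, cj g (fc e i) = fc e j := by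
  by_contra hcon
  push Not at hcon
  let S : Set (Fin k) := {l | ∃ g ∈ H, cj g (fc e i) = fc e l}
  have hj : j ∉ S := by
    rintro ⟨g, hg, h1⟩
    exact hcon g hg h1
  have hi : i ∈ S := ⟨1, H.one_mem, cj_one _⟩
  have hle : (⨆ l ∈ S, fc e l) ≤ N := iSup₂_le fun l _ => fc_le e l
  have hnor : ∀ g ∈ H, ∀ x ∈ ⨆ l ∈ S, fc e l, g * x * g⁻¹ ∈ ⨆ l ∈ S, fc e l := by
    intro g hg x hx
    have h1 : cj g (⨆ l ∈ S, fc e l) ≤ ⨆ l ∈ S, fc e l := by
      rw [cj_le_iff]
      refine iSup₂_le fun l hl => ?_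
      rw [← cj_le_iff]
      obtain ⟨g', hg', hl'⟩ := hl
      obtain ⟨m, hm⟩ := EPS.exists_cj h hg l
      rw [hm]
      refine le_iSup₂_of_le m ⟨g * g', H.mul_mem hg hg', ?_⟩ le_rfl
      rw [cj_mul, hl', hm]
    exact h1 (conj_mem_cj hx)
  have hN : N ≤ ⨆ l ∈ S, fc e l := by
    refine h.least _ ⟨hle.trans h.le, hnor⟩ ?_
    intro h0
    apply fc_ne_bot e h.simple i
    rw [eq_bot_iff, ← h0]
    exact le_iSup₂_of_le i hi le_rfl
  obtain ⟨a, b, hab⟩ := h.nab
  apply hab
  apply inj_injective e j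
  rw [map_mul, map_mul]
  exact mem_comm_iSup hj (inj_mem e j a) (hN (inj_mem_N e j b))

/-- every two-point stabiliser is transitive on the factors -/
theorem EPS.transM [Finite G] (h : EPS H N e) {x : G} (hx : x ∉ H) (i j : Fin k) :
    ∃ m ∈ H ⊓ cj x H, cj m (fc e i) = fc e j := by
  obtain ⟨g, hg, h1⟩ := EPS.trans h i j
  obtain ⟨n, hn, m, hm, rfl⟩ := h.ep.fac h.le h.nrm h.ne hx hg
  refine ⟨m, hm, ?_⟩
  obtain ⟨l, hl⟩ := EPS.exists_cj h (mem_inf.1 hm).1 i
  rw [cj_mul, hl, cj_fc e hn] at h1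
  rw [hl, h1]

/-- no two-point stabiliser contains a factor -/
theorem EPS.fc_not_le [Finite G] (h : EPS H N e) {x : G} (hx : x ∉ H) (i : Fin k) : ¬ fc e i ≤ cj x H := by
  intro hle
  apply h.ne
  apply h.ep.F1 h.le h.nrm hx
  rw [← iSup_fc e]
  refine iSup_le fun j => ?_
  obtain ⟨m, hm, hmj⟩ := EPS.transM h hx i j
  rw [← hmj, ← cj_eq_self (mem_inf.1 hm).2]
  exact cj_mono hle

variable (e) in
/-- `M ∩ T_i` as a subgroup of `T` -/
def Kt (H : Subgroup G) (x : G) (i : Fin k) : Subgroup T := (cj x H).comap (inj e i)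

theorem mem_Kt {x : G} {i : Fin k} {t : T} : t ∈ Kt e H x i ↔ inj e i t ∈ cj x H := Iff.rfl

theorem map_Kt (x : G) (i : Fin k) : (Kt e H x i).map (inj e i) = cj x H ⊓ fc e i := by
  ext g
  constructor
  · rintro ⟨t, ht, rfl⟩
    exact ⟨ht, inj_mem e i t⟩
  · rintro ⟨h1, t, rfl⟩
    exact ⟨t, h1, rfl⟩

/-- conjugation by elements of `M` permutes the `M ∩ T_i` -/
theorem EPS.cj_K (_h : EPS H N e) {x m : G} (hm : m ∈ H ⊓ cj x H) {i j : Fin k} (hij : cj m (fc e i) = fc e j) :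
    cj m (cj x H ⊓ fc e i) = cj x H ⊓ fc e j := by
  rw [cj_inf, hij, cj_eq_self (mem_inf.1 hm).2]

theorem EPS.K_ne [Finite G] (h : EPS H N e) {x : G} (hx : x ∉ H) {i : Fin k} (hi : cj x H ⊓ fc e i ≠ ⊥) (j : Fin k) :
    cj x H ⊓ fc e j ≠ ⊥ := by
  obtain ⟨m, hm, hmj⟩ := EPS.transM h hx i j
  rw [← EPS.cj_K h hm hmj, Ne, cj_eq_bot_iff]
  exact hi

/-- the normal closure in `M` -/
def ncl (M Y : Subgroup G) : Subgroup G := ⨆ m ∈ M, cj m Y

theorem ncl_conj {M Y : Subgroup G} {m : G} (hm : m ∈ M) {z : G} (hz : z ∈ ncl M Y) : m * z * m⁻¹ ∈ ncl M Y := by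
  have h1 : cj m (ncl M Y) ≤ ncl M Y := by
    rw [cj_le_iff]
    refine iSup₂_le fun a ha => ?_
    rw [← cj_le_iff, ← cj_mul]
    exact le_iSup₂_of_le (m * a) (M.mul_mem hm ha) le_rfl
  exact h1 (conj_mem_cj hz)

theorem le_ncl (M Y : Subgroup G) : Y ≤ ncl M Y := by
  refine le_iSup₂_of_le 1 M.one_mem ?_
  rw [cj_one]

theorem ncl_le {M Y : Subgroup G} (h : Y ≤ M) : ncl M Y ≤ M := by
  refine iSup₂_le fun m hm => ?_
  rw [← cj_eq_self hm]
  exact cj_mono h

/-- the elements of `M` normalising `T_i` preserve the characteristic subgroups of `M ∩ T_i` -/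
theorem cj_char [Finite G] {x m : G} (hm : m ∈ H ⊓ cj x H) {i : Fin k} (hmi : cj m (fc e i) = fc e i)
    (Y : Subgroup (Kt e H x i)) (hY : Y.Characteristic) :
    cj m ((Y.map (Kt e H x i).subtype).map (inj e i)) ≤ (Y.map (Kt e H x i).subtype).map (inj e i) := by
  have hfin : Finite T := Finite.of_injective _ (inj_injective e i)
  have h1 : ∀ t : Kt e H x i, ∃ t' : Kt e H x i, inj e i t' = m * inj e i t * m⁻¹ := by
    intro t
    have h2 : m * inj e i t * m⁻¹ ∈ fc e i := by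
      rw [← hmi]
      exact conj_mem_cj (inj_mem e i t)
    obtain ⟨t', ht'⟩ := h2
    refine ⟨⟨t', ?_⟩, ht'⟩
    rw [mem_Kt, ht']
    exact (cj x H).mul_mem ((cj x H).mul_mem (mem_inf.1 hm).2 t.2) ((cj x H).inv_mem (mem_inf.1 hm).2)
  choose f hf using h1
  let F : Kt e H x i →* Kt e H x i :=
    { toFun := f
      map_one' := by
        apply Subtype.ext
        apply inj_injective e i
        rw [hf]
        simp
      map_mul' := fun a b => by
        apply Subtype.ext
        apply inj_injective e i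
        rw [hf, Subgroup.coe_mul, Subgroup.coe_mul, map_mul, map_mul, hf, hf]
        group }
  have hF : Function.Injective F := by
    intro a b hab
    have h2 : inj e i (f a) = inj e i (f b) := congrArg (fun z : Kt e H x i => inj e i z) hab
    rw [hf, hf] at h2
    exact Subtype.ext (inj_injective e i (mul_left_cancel (mul_right_cancel h2)))
  let τ : MulAut (Kt e H x i) := MulEquiv.ofBijective F (Finite.injective_iff_bijective.1 hF)
  have hτ : Y.map τ.toMonoidHom = Y := Subgroup.characteristic_iff_map_eq.1 hY τ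
  rintro _ ⟨_, ⟨_, ⟨y, hy, rfl⟩, rfl⟩, rfl⟩
  have h2 : τ y ∈ Y := by
    rw [← hτ]
    exact ⟨y, hy, rfl⟩
  exact ⟨_, ⟨τ y, h2, rfl⟩, hf y⟩

/-- **local subgroups**: if `M ∩ T_i ≠ 1` then it contains the normaliser (in `T_i`) of all its characteristic subgroups
`≠ 1` -/
theorem EPS.norm_le [Finite G] (h : EPS H N e) {x : G} (hx : x ∉ H) (i : Fin k) (Y : Subgroup (Kt e H x i))
    (hY : Y.Characteristic) (hY0 : Y ≠ ⊥) {t : T}
    (ht : t ∈ normalizer ((Y.map (Kt e H x i).subtype : Subgroup T) : Set T)) : t ∈ Kt e H x i := by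
  set M := H ⊓ cj x H with hM
  set Y₁ : Subgroup G := (Y.map (Kt e H x i).subtype).map (inj e i) with hY₁
  have hY₁K : Y₁ ≤ cj x H ⊓ fc e i := by
    rw [← map_Kt]
    apply Subgroup.map_mono
    rintro _ ⟨y, _, rfl⟩
    exact y.2
  have hY₁M : Y₁ ≤ M := fun y hy => ⟨(fc_le e i).trans h.le (hY₁K hy).2, (hY₁K hy).1⟩
  -- characteristic
  have hch : ∀ m ∈ M, cj m (fc e i) = fc e i → cj m Y₁ ≤ Y₁ := fun m hm hmi => cj_char hm hmi Y hY
  rw [mem_Kt]
  have hin : inj e i t ∈ H := h.le (inj_mem_N e i t)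
  refine h.ep.norm hx (X := ncl M Y₁) (ncl_le hY₁M) (fun m hm z hz => ncl_conj hm hz) ?_ hin ?_
  · intro h0
    have h1 : Y₁ = ⊥ := by
      rw [eq_bot_iff, ← h0]
      exact le_ncl _ _
    rw [hY₁, Subgroup.map_eq_bot_iff_of_injective _ (inj_injective e i),
      Subgroup.map_eq_bot_iff_of_injective _ (Kt e H x i).subtype_injective] at h1
    exact hY0 h1
  · intro z hz
    have h2 : cj (inj e i t) (ncl M Y₁) ≤ ncl M Y₁ := by
      rw [cj_le_iff]
      refine iSup₂_le fun m hm => ?_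
      rw [← cj_le_iff]
      obtain ⟨j, hj⟩ := EPS.exists_cj h (mem_inf.1 hm).1 i
      by_cases hij : i = j
      · subst hij
        refine (cj_mono (hch m hm hj)).trans (le_trans ?_ (le_ncl _ _))
        rintro _ ⟨_, ⟨y, hy, rfl⟩, rfl⟩
        refine ⟨t * y * t⁻¹, (mem_normalizer_iff.mp ht y).mp hy, ?_⟩
        simp [map_mul]
      · have h3 : cj (inj e i t) (cj m Y₁) ≤ cj m Y₁ := by
          rintro _ ⟨z, hz, rfl⟩
          have hz' : z ∈ fc e j := by
            rw [← hj]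
            exact cj_mono (hY₁K.trans inf_le_right) hz
          have h4 := fc_comm e hij (inj_mem e i t) hz'
          have h5 : (MulAut.conj (inj e i t)).toMonoidHom z = z := by
            change inj e i t * z * (inj e i t)⁻¹ = z
            rw [h4]; group
          rw [h5]
          exact hz
        exact h3.trans (le_iSup₂_of_le m hm le_rfl)
    exact h2 (conj_mem_cj hz)

theorem EPS.Kt_ne [Finite G] (h : EPS H N e) {x : G} (hx : x ∉ H) {i : Fin k} (hi : Kt e H x i ≠ ⊥) (j : Fin k) :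
    Kt e H x j ≠ ⊥ := by
  intro h0
  have h1 : cj x H ⊓ fc e i ≠ ⊥ := by
    rw [← map_Kt, Ne, Subgroup.map_eq_bot_iff_of_injective _ (inj_injective e i)]
    exact hi
  apply EPS.K_ne h hx h1 j
  rw [← map_Kt, h0, Subgroup.map_bot]

theorem EPS.Kt_ne_top [Finite G] (h : EPS H N e) {x : G} (hx : x ∉ H) (i : Fin k) : Kt e H x i ≠ ⊤ := by
  intro h0
  apply EPS.fc_not_le h hx i
  rintro _ ⟨t, rfl⟩
  have : t ∈ Kt e H x i := by rw [h0]; trivial
  exact this

/-- the product of the `M ∩ T_i` -/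
theorem EPS.mem_of_norm [Finite G] (h : EPS H N e) {x : G} (hx : x ∉ H) {i : Fin k} (hi : Kt e H x i ≠ ⊥) {g : G}
    (hg : g ∈ H) (hn : ∀ z ∈ ⨆ j, (cj x H ⊓ fc e j), g * z * g⁻¹ ∈ ⨆ j, (cj x H ⊓ fc e j)) : g ∈ cj x H := by
  refine h.ep.norm hx (X := ⨆ j, (cj x H ⊓ fc e j)) ?_ ?_ ?_ hg hn
  · exact iSup_le fun j => le_inf (inf_le_right.trans ((fc_le e j).trans h.le)) inf_le_left
  · intro m hm z hz
    have h1 : cj m (⨆ j, (cj x H ⊓ fc e j)) ≤ ⨆ j, (cj x H ⊓ fc e j) := by
      rw [cj_le_iff]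
      refine iSup_le fun j => ?_
      rw [← cj_le_iff]
      obtain ⟨l, hl⟩ := EPS.exists_cj h (mem_inf.1 hm).1 j
      rw [EPS.cj_K h hm hl]
      exact le_iSup (fun j => cj x H ⊓ fc e j) l
    exact h1 (conj_mem_cj hz)
  · intro h0
    apply hi
    have h1 : cj x H ⊓ fc e i = ⊥ := by
      rw [eq_bot_iff, ← h0]
      exact le_iSup (fun j => cj x H ⊓ fc e j) i
    rwa [← map_Kt, Subgroup.map_eq_bot_iff_of_injective _ (inj_injective e i)] at h1

/-- `M` is determined by the `M ∩ T_i` -/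
theorem EPS.eq_of_Kt [Finite G] (h : EPS H N e) {x y : G} (hx : x ∉ H) (hy : y ∉ H) {i : Fin k} (hi : Kt e H x i ≠ ⊥)
    (hxy : ∀ j, Kt e H x j = Kt e H y j) : H ⊓ cj x H = H ⊓ cj y H := by
  have key : ∀ x y : G, x ∉ H → y ∉ H → Kt e H x i ≠ ⊥ → (∀ j, Kt e H x j = Kt e H y j) → H ⊓ cj x H ≤ H ⊓ cj y H := by
    intro x y hx hy hi hxy m hm
    refine ⟨(mem_inf.1 hm).1, EPS.mem_of_norm h hy (i := i) (hxy i ▸ hi) (mem_inf.1 hm).1 ?_⟩
    have h1 : (⨆ j, (cj y H ⊓ fc e j)) = ⨆ j, (cj x H ⊓ fc e j) := by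
      congr 1
      funext j
      rw [← map_Kt, ← map_Kt, hxy j]
    rw [h1]
    intro z hz
    have h2 : cj m (⨆ j, (cj x H ⊓ fc e j)) ≤ ⨆ j, (cj x H ⊓ fc e j) := by
      rw [cj_le_iff]
      refine iSup_le fun j => ?_
      rw [← cj_le_iff]
      obtain ⟨l, hl⟩ := EPS.exists_cj h (mem_inf.1 hm).1 j
      rw [EPS.cj_K h hm hl]
      exact le_iSup (fun j => cj x H ⊓ fc e j) l
    exact h2 (conj_mem_cj hz)
  exact le_antisymm (key x y hx hy hi hxy) (key y x hy hx (hxy i ▸ hi) fun j => (hxy j).symm)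

end perm

end Cfsg.Agent.H758.EPX
end

-- part: H758/EPX/Reg
section
prune_inst 0x22000000180000200020001000000200400000004004000041080020010800006005020022004000008068104400000010000020008000000000000420004080081000210000404000080c00000000000000000000000000000000000000000
set_option linter.all false
open scoped Cfsg.Agent.FastGrp

-- part: H758/EPX/Sub
section
/-!
# Subdirect subgroups of `T^k`, `T` nonabelian simple

`D ≤ T^k` with all projections surjective. `Rel D i j` : `d i = 1 → d j = 1` on `D`.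
* `exists_aut` : if `Rel D i j` then `d j = α (d i)` on `D` for some automorphism `α`;
* `surj_of_not_rel` : `D` maps onto `T^R` for a set `R` of pairwise unrelated indices;
* `exists_code` : `D` is `{f | f i = α i (f (r i))}`, where `r i` is the least index related to `i`, `α i = 1` if `r i = i`;
  if `D ∩ T_i = 1` for all `i` then at most half of the indices satisfy `r i = i`.
-/

set_option autoImplicit false
set_option linter.unusedSectionVars false

namespace Cfsg.Agent.H758.EPX.Sub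

variable {T : Type*} [Group T] [Finite T] {k : ℕ}

/-- subdirect subgroups -/
def Sd (D : Subgroup (Fin k → T)) : Prop := ∀ (i : Fin k) (t : T), ∃ d ∈ D, d i = t

/-- the kernel of the `i`-th projection is contained in that of the `j`-th -/
def Rel (D : Subgroup (Fin k → T)) (i j : Fin k) : Prop := ∀ d ∈ D, d i = 1 → d j = 1

theorem Rel.refl (D : Subgroup (Fin k → T)) (i : Fin k) : Rel D i i := fun _ _ h => h

theorem Rel.trans {D : Subgroup (Fin k → T)} {i j l : Fin k} (h1 : Rel D i j) (h2 : Rel D j l) : Rel D i l :=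
  fun d hd h => h2 d hd (h1 d hd h)

/-- related coordinates are linked by an automorphism -/
theorem exists_aut {D : Subgroup (Fin k → T)} (hD : Sd D) {i j : Fin k} (h : Rel D i j) :
    ∃ α : MulAut T, ∀ d ∈ D, d j = α (d i) := by
  classical
  choose f hf hfi using hD i
  have key : ∀ d ∈ D, d j = f (d i) j := by
    intro d hd
    have h1 := h (d * (f (d i))⁻¹) (D.mul_mem hd (D.inv_mem (hf _))) (by
      rw [Pi.mul_apply, Pi.inv_apply, hfi, mul_inv_cancel])
    rw [Pi.mul_apply, Pi.inv_apply] at h1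
    exact mul_inv_eq_one.mp h1
  let φ : T →* T :=
    { toFun := fun t => f t j
      map_one' := by
        have := key 1 D.one_mem
        rw [Pi.one_apply, Pi.one_apply] at this
        exact this.symm
      map_mul' := fun a b => by
        have := key (f a * f b) (D.mul_mem (hf a) (hf b))
        rw [Pi.mul_apply, Pi.mul_apply, hfi, hfi] at this
        exact this.symm }
  have hφ : Function.Surjective φ := by
    intro t
    obtain ⟨d, hd, rfl⟩ := hD j t
    exact ⟨d i, (key d hd).symm⟩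
  exact ⟨MulEquiv.ofBijective φ (Finite.surjective_iff_bijective.1 hφ), fun d hd => key d hd⟩

theorem Rel.symm {D : Subgroup (Fin k → T)} (hD : Sd D) {i j : Fin k} (h : Rel D i j) : Rel D j i := by
  obtain ⟨α, hα⟩ := exists_aut hD h
  intro d hd hdj
  rw [hα d hd, map_eq_one_iff α α.injective] at hdj
  exact hdj

/-- commuting normal subgroups of a nonabelian simple group -/
theorem bot_of_comm (hs : IsSimpleGroup T) (hna : ∃ a b : T, a * b ≠ b * a) (A B : Subgroup T) [A.Normal] [B.Normal]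
    (hAB : ∀ a ∈ A, ∀ b ∈ B, a * b = b * a) : A = ⊥ ∨ B = ⊥ := by
  rcases hs.eq_bot_or_eq_top_of_normal A inferInstance with h | h
  · exact Or.inl h
  rcases hs.eq_bot_or_eq_top_of_normal B inferInstance with h' | h'
  · exact Or.inr h'
  exfalso
  obtain ⟨a, b, hab⟩ := hna
  exact hab (hAB a (h ▸ Subgroup.mem_top a) b (h' ▸ Subgroup.mem_top b))

/-- the image under the `a`-th projection of the elements of `D` trivial on `S` -/
def im (D : Subgroup (Fin k → T)) (S : Finset (Fin k)) (a : Fin k) : Subgroup T where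
  carrier := {t | ∃ d ∈ D, (∀ i ∈ S, d i = 1) ∧ d a = t}
  one_mem' := ⟨1, D.one_mem, fun _ _ => rfl, rfl⟩
  mul_mem' := by
    rintro _ _ ⟨c, hc, hc1, rfl⟩ ⟨d, hd, hd1, rfl⟩
    exact ⟨c * d, D.mul_mem hc hd, fun i hi => by rw [Pi.mul_apply, hc1 i hi, hd1 i hi, one_mul], rfl⟩
  inv_mem' := by
    rintro _ ⟨c, hc, hc1, rfl⟩
    exact ⟨c⁻¹, D.inv_mem hc, fun i hi => by rw [Pi.inv_apply, hc1 i hi, inv_one], rfl⟩

theorem im_normal {D : Subgroup (Fin k → T)} (hD : Sd D) (S : Finset (Fin k)) (a : Fin k) : (im D S a).Normal := by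
  constructor
  rintro _ ⟨c, hc, hc1, rfl⟩ g
  obtain ⟨d, hd, rfl⟩ := hD a g
  refine ⟨d * c * d⁻¹, D.mul_mem (D.mul_mem hd hc) (D.inv_mem hd), fun i hi => ?_, rfl⟩
  rw [Pi.mul_apply, Pi.mul_apply, hc1 i hi, Pi.inv_apply, mul_one, mul_inv_cancel]

theorem im_ne_bot (hs : IsSimpleGroup T) (hna : ∃ a b : T, a * b ≠ b * a) {D : Subgroup (Fin k → T)} (hD : Sd D)
    (S : Finset (Fin k)) (a : Fin k) (hS : ∀ i ∈ S, ¬ Rel D i a) : im D S a ≠ ⊥ := by
  classical
  induction S using Finset.induction with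
  | empty =>
    intro h
    have := hs.toNontrivial
    obtain ⟨t, ht⟩ := exists_ne (1 : T)
    apply ht
    rw [← Subgroup.mem_bot, ← h]
    obtain ⟨d, hd, hda⟩ := hD a t
    exact ⟨d, hd, fun i hi => absurd hi (Finset.notMem_empty i), hda⟩
  | insert b S _ ih =>
    intro h
    have hN1 := im_normal hD {b} a
    have hN2 := im_normal hD S a
    rcases bot_of_comm hs hna (im D {b} a) (im D S a) (by
      rintro _ ⟨c, hc, hc1, rfl⟩ _ ⟨d, hd, hd1, rfl⟩
      have h1 : (c * d * c⁻¹ * d⁻¹) a ∈ im D (insert b S) a := by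
        refine ⟨c * d * c⁻¹ * d⁻¹, D.mul_mem (D.mul_mem (D.mul_mem hc hd) (D.inv_mem hc)) (D.inv_mem hd), ?_, rfl⟩
        intro i hi
        rw [Finset.mem_insert] at hi
        rcases hi with rfl | hi
        · simp [Pi.mul_apply, Pi.inv_apply, hc1 i (Finset.mem_singleton_self i)]
        · simp [Pi.mul_apply, Pi.inv_apply, hd1 i hi]
      rw [h, Subgroup.mem_bot] at h1
      simp only [Pi.mul_apply, Pi.inv_apply] at h1
      have h2 : c a * d a = (c a * d a * (c a)⁻¹ * (d a)⁻¹) * (d a * c a) := by group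
      rw [h2, h1, one_mul]) with h' | h'
    · apply hS b (Finset.mem_insert_self b S)
      intro d hd hdb
      rw [← Subgroup.mem_bot, ← h']
      refine ⟨d, hd, ?_, rfl⟩
      intro i hi
      rw [Finset.mem_singleton] at hi
      rw [hi, hdb]
    · exact ih (fun i hi => hS i (Finset.mem_insert_of_mem hi)) h'

/-- `D` maps onto `T^S` -/
theorem surj_of_not_rel (hs : IsSimpleGroup T) (hna : ∃ a b : T, a * b ≠ b * a) {D : Subgroup (Fin k → T)} (hD : Sd D)
    (S : Finset (Fin k)) (hS : ∀ i ∈ S, ∀ j ∈ S, i ≠ j → ¬ Rel D i j) (f : Fin k → T) :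
    ∃ d ∈ D, ∀ i ∈ S, d i = f i := by
  classical
  induction S using Finset.induction with
  | empty => exact ⟨1, D.one_mem, fun i hi => absurd hi (Finset.notMem_empty i)⟩
  | insert a S ha ih =>
    obtain ⟨d, hd, hdS⟩ := ih (fun i hi j hj => hS i (Finset.mem_insert_of_mem hi) j (Finset.mem_insert_of_mem hj))
    have hne := im_ne_bot hs hna hD S a (fun i hi => hS i (Finset.mem_insert_of_mem hi) a (Finset.mem_insert_self a S)
      (fun h => ha (h ▸ hi)))
    have htop : im D S a = ⊤ := (hs.eq_bot_or_eq_top_of_normal _ (im_normal hD S a)).resolve_left hne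
    have hmem : (d a)⁻¹ * f a ∈ im D S a := by rw [htop]; trivial
    obtain ⟨c, hc, hc1, hca⟩ := hmem
    refine ⟨d * c, D.mul_mem hd hc, fun i hi => ?_⟩
    rw [Finset.mem_insert] at hi
    rcases hi with rfl | hi
    · rw [Pi.mul_apply, hca, mul_inv_cancel_left]
    · rw [Pi.mul_apply, hc1 i hi, mul_one, hdS i hi]

open Classical in
/-- the least index related to `i` -/
noncomputable def rep (D : Subgroup (Fin k → T)) (i : Fin k) : Fin k :=
  (Finset.univ.filter fun j => Rel D j i).min' ⟨i, by simp only [Rel.refl, _root_.Finset.mem_filter, _root_.Finset.mem_univ, _root_.and_self]⟩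

theorem rep_rel (D : Subgroup (Fin k → T)) (i : Fin k) : Rel D (rep D i) i := by
  classical
  have := Finset.min'_mem (Finset.univ.filter fun j => Rel D j i) ⟨i, by simp only [Rel.refl, _root_.Finset.mem_filter, _root_.Finset.mem_univ, _root_.and_self]⟩
  exact (Finset.mem_filter.mp this).2

theorem rep_le (D : Subgroup (Fin k → T)) {i j : Fin k} (h : Rel D j i) : rep D i ≤ j := by
  classical
  exact Finset.min'_le _ _ (by simp only [h, _root_.Finset.mem_filter, _root_.Finset.mem_univ, _root_.and_self])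

theorem rep_eq {D : Subgroup (Fin k → T)} (hD : Sd D) {i j : Fin k} (h : Rel D i j) : rep D i = rep D j := by
  apply le_antisymm
  · exact rep_le D ((rep_rel D j).trans (h.symm hD))
  · exact rep_le D ((rep_rel D i).trans h)

theorem rep_rep {D : Subgroup (Fin k → T)} (hD : Sd D) (i : Fin k) : rep D (rep D i) = rep D i :=
  rep_eq hD (rep_rel D i)

/-- **the structure of a subdirect subgroup** -/
theorem exists_code (hs : IsSimpleGroup T) (hna : ∃ a b : T, a * b ≠ b * a) {D : Subgroup (Fin k → T)} (hD : Sd D) :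
    ∃ α : Fin k → MulAut T, (∀ i, rep D i = i → α i = 1) ∧
      ∀ f : Fin k → T, f ∈ D ↔ ∀ i, f i = α i (f (rep D i)) := by
  classical
  choose β hβ using fun i => exists_aut hD (rep_rel D i)
  let α : Fin k → MulAut T := fun i => if rep D i = i then 1 else β i
  have hα : ∀ i, ∀ d ∈ D, d i = α i (d (rep D i)) := by
    intro i d hd
    by_cases hi : rep D i = i
    · simp only [α, if_pos hi]
      rw [hi]
      rfl
    · simp only [α, if_neg hi]
      exact hβ i d hd
  refine ⟨α, fun i hi => by simp only [α, if_pos hi], fun f => ⟨fun hf i => hα i f hf, fun hf => ?_⟩⟩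
  obtain ⟨d, hd, hdS⟩ := surj_of_not_rel hs hna hD (Finset.univ.filter fun i => rep D i = i) (by
    intro i hi j hj hij hrel
    apply hij
    rw [← (Finset.mem_filter.mp hi).2, ← (Finset.mem_filter.mp hj).2]
    exact rep_eq hD hrel) f
  have : f = d := by
    funext i
    rw [hf i, hα i d hd, hdS (rep D i) (by simp only [rep_rep hD, _root_.Finset.mem_filter, _root_.Finset.mem_univ, _root_.and_self])]
  rw [this]
  exact hd

/-- if `D` meets the factors trivially, no class is a singleton -/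
theorem exists_ne_rep (hs : IsSimpleGroup T) (hna : ∃ a b : T, a * b ≠ b * a) {D : Subgroup (Fin k → T)} (hD : Sd D)
    (hT : ∀ (i : Fin k) (t : T), Pi.mulSingle i t ∈ D → t = 1) {i : Fin k} (hi : rep D i = i) :
    ∃ j, j ≠ i ∧ rep D j = i := by
  classical
  by_contra hcon
  push Not at hcon
  have := hs.toNontrivial
  obtain ⟨t, ht⟩ := exists_ne (1 : T)
  apply ht
  apply hT i t
  obtain ⟨α, _, hα⟩ := exists_code hs hna hD
  rw [hα]
  intro j
  by_cases hj : j = i
  · subst hj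
    obtain ⟨d, hd, hdj⟩ := hD j t
    have h1 := (hα d).mp hd j
    rw [hi, hdj] at h1
    rw [hi, Pi.mulSingle_eq_same]
    exact h1
  · have h2 : rep D j ≠ i := hcon j hj
    rw [Pi.mulSingle_eq_of_ne hj, Pi.mulSingle_eq_of_ne h2, map_one]

end Cfsg.Agent.H758.EPX.Sub
end

-- part: H758/EPX/SubCount
section
/-!
# The number of subdirect subgroups of `T^k` meeting all factors trivially
-/

set_option autoImplicit false
set_option linter.unusedSectionVars false

namespace Cfsg.Agent.H758.EPX.Sub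

variable {T : Type*} [Group T] [Finite T] {k : ℕ}

/-- the subdirect subgroups meeting all factors trivially -/
def Dg (T : Type*) [Group T] (k : ℕ) : Set (Subgroup (Fin k → T)) :=
  {D | Sd D ∧ ∀ (i : Fin k) (t : T), Pi.mulSingle i t ∈ D → t = 1}

/-- admissible sets of representatives -/
def ok (k : ℕ) : Finset (Finset (Fin k)) :=
  Finset.univ.filter fun R => 2 * R.card ≤ k ∧ ∀ i : Fin k, (i : ℕ) = 0 → i ∈ R

open Classical in
/-- the fixed points of `rep` -/
noncomputable def fx (D : Subgroup (Fin k → T)) : Finset (Fin k) := Finset.univ.filter fun i => rep D i = i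

theorem mem_fx {D : Subgroup (Fin k → T)} {i : Fin k} : i ∈ fx D ↔ rep D i = i := by
  classical
  simp only [fx, _root_.Finset.mem_filter, _root_.Finset.mem_univ, _root_.true_and]

theorem fx_ok (hs : IsSimpleGroup T) (hna : ∃ a b : T, a * b ≠ b * a) {D : Subgroup (Fin k → T)} (hD : D ∈ Dg T k) :
    fx D ∈ ok k := by
  classical
  rw [ok, Finset.mem_filter]
  refine ⟨Finset.mem_univ _, ?_, ?_⟩
  · choose g hg hgi using fun i : {i // i ∈ fx D} => exists_ne_rep hs hna hD.1 hD.2 (mem_fx.mp i.2)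
    have hinj : Function.Injective g := by
      intro a b hab
      apply Subtype.ext
      rw [← hgi a, ← hgi b, hab]
    have hle : (fx D).card ≤ (fx D)ᶜ.card := by
      rw [← Fintype.card_coe (fx D)]
      calc Fintype.card {i // i ∈ fx D} = (Finset.univ.image g).card := by
            rw [Finset.card_image_of_injective _ hinj, Finset.card_univ]
        _ ≤ (fx D)ᶜ.card := Finset.card_le_card (by
            intro j hj
            rw [Finset.mem_image] at hj
            obtain ⟨i, _, rfl⟩ := hj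
            rw [Finset.mem_compl, mem_fx, hgi i]
            exact fun h => hg i h.symm)
    rw [Finset.card_compl, Fintype.card_fin] at hle
    have := Finset.card_le_univ (fx D)
    rw [Fintype.card_fin] at this
    omega
  · intro i hi
    rw [mem_fx]
    have h1 := rep_le D (Rel.refl D i)
    apply Fin.ext
    have h2 : ((rep D i : Fin k) : ℕ) ≤ i := h1
    omega

/-- **the number of diagonal type subgroups** -/
theorem ncard_Dg_le (hs : IsSimpleGroup T) (hna : ∃ a b : T, a * b ≠ b * a) :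
    (Dg T k).ncard ≤ ∑ R ∈ ok k, (R.card * Nat.card (MulAut T)) ^ (k - R.card) := by
  classical
  have : Fintype (MulAut T) := Fintype.ofFinite _
  let C := Σ R : {R // R ∈ ok k}, ({i : Fin k // i ∉ R.1} → {j : Fin k // j ∈ R.1} × MulAut T)
  have hcard : Fintype.card C = ∑ R ∈ ok k, (R.card * Nat.card (MulAut T)) ^ (k - R.card) := by
    rw [Fintype.card_sigma]
    simp only [Fintype.card_fun, Fintype.card_prod, Fintype.card_coe, Nat.card_eq_fintype_card]
    rw [← Finset.sum_coe_sort (ok k) (fun R => (R.card * Fintype.card (MulAut T)) ^ (k - R.card))]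
    refine Finset.sum_congr rfl fun R _ => ?_
    congr 1
    rw [Fintype.card_subtype_compl, Fintype.card_fin, Fintype.card_coe]
  rw [← hcard, ← Nat.card_eq_fintype_card, ← Nat.card_coe_set_eq]
  choose! α hα1 hα using fun (D : Subgroup (Fin k → T)) (h : Sd D) => exists_code hs hna h
  have hrep : ∀ (D : Dg T k) (i : Fin k), rep D.1 i ∈ fx D.1 := fun D i => mem_fx.mpr (rep_rep D.2.1 i)
  let F : Dg T k → C := fun D =>
    ⟨⟨fx D.1, fx_ok hs hna D.2⟩, fun i => (⟨rep D.1 i.1, hrep D i.1⟩, α D.1 i.1)⟩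
  refine Nat.card_le_card_of_injective F ?_
  -- recover `rep` and `α` from the code
  let rp : C → Fin k → Fin k := fun c i => if h : i ∈ c.1.1 then i else (c.2 ⟨i, h⟩).1
  let al : C → Fin k → MulAut T := fun c i => if h : i ∈ c.1.1 then 1 else (c.2 ⟨i, h⟩).2
  have h1 : ∀ (D : Dg T k) i, rp (F D) i = rep D.1 i := by
    intro D i
    by_cases h : i ∈ fx D.1
    · have : rp (F D) i = i := dif_pos h
      rw [this]
      exact (mem_fx.mp h).symm
    · exact dif_neg h
  have h2 : ∀ (D : Dg T k) i, al (F D) i = α D.1 i := by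
    intro D i
    by_cases h : i ∈ fx D.1
    · have : al (F D) i = 1 := dif_pos h
      rw [this]
      exact (hα1 D.1 D.2.1 i (mem_fx.mp h)).symm
    · exact dif_neg h
  intro D E hDE
  apply Subtype.ext
  ext f
  rw [hα D.1 D.2.1, hα E.1 E.2.1]
  have h3 : ∀ i, rep D.1 i = rep E.1 i := fun i => by rw [← h1, ← h1, hDE]
  have h4 : ∀ i, α D.1 i = α E.1 i := fun i => by rw [← h2, ← h2, hDE]
  simp only [h3, h4]

theorem ncard_Dg_two (hs : IsSimpleGroup T) (hna : ∃ a b : T, a * b ≠ b * a) :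
    (Dg T 2).ncard ≤ Nat.card (MulAut T) := by
  have h := ncard_Dg_le (k := 2) hs hna
  have h2 : ok 2 = {{0}} := by decide
  rw [h2, Finset.sum_singleton] at h
  simpa only [_root_.ge_iff_le, _root_.Fin.isValue, _root_.Finset.card_singleton, _root_.one_mul, _root_.Nat.add_one_sub_one, _root_.pow_one] using h

/-- closed form -/
theorem sum_ok (k a : ℕ) (hk : 0 < k) : ∑ R ∈ ok k, (R.card * a) ^ (k - R.card) ≤
    ∑ c ∈ Finset.Icc 1 (k / 2), (k - 1).choose (c - 1) * (c * a) ^ (k - c) := by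
  classical
  have hmap : ∀ R ∈ ok k, R.card ∈ Finset.Icc 1 (k / 2) := by
    intro R hR
    rw [ok, Finset.mem_filter] at hR
    have h0 : (⟨0, hk⟩ : Fin k) ∈ R := hR.2.2 _ rfl
    have h1 : 0 < R.card := Finset.card_pos.mpr ⟨_, h0⟩
    rw [Finset.mem_Icc]
    omega
  rw [← Finset.sum_fiberwise_of_maps_to hmap]
  refine Finset.sum_le_sum fun c hc => ?_
  rw [Finset.mem_Icc] at hc
  have h1 : ∑ R ∈ (ok k).filter (fun R => R.card = c), (R.card * a) ^ (k - R.card) =
      ((ok k).filter (fun R => R.card = c)).card * (c * a) ^ (k - c) := by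
    rw [← smul_eq_mul, ← Finset.sum_const]
    refine Finset.sum_congr rfl fun R hR => ?_
    rw [(Finset.mem_filter.mp hR).2]
  rw [h1]
  refine Nat.mul_le_mul_right _ ?_
  -- sets of size `c` containing `0`
  have h2 : ((ok k).filter (fun R => R.card = c)).card ≤
      (((Finset.univ : Finset (Fin k)).erase ⟨0, hk⟩).powersetCard (c - 1)).card := by
    refine Finset.card_le_card_of_injOn (fun R => R.erase ⟨0, hk⟩) ?_ ?_
    · intro R hR
      rw [Finset.mem_coe, Finset.mem_filter, ok, Finset.mem_filter] at hR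
      rw [Finset.mem_coe, Finset.mem_powersetCard]
      refine ⟨Finset.erase_subset_erase _ (Finset.subset_univ _), ?_⟩
      rw [Finset.card_erase_of_mem (hR.1.2.2 _ rfl), hR.2]
    · intro R hR S hS h
      rw [Finset.mem_coe, Finset.mem_filter, ok, Finset.mem_filter] at hR hS
      have h3 := congrArg (insert (⟨0, hk⟩ : Fin k)) h
      simp only [] at h3
      rwa [Finset.insert_erase (hR.1.2.2 _ rfl), Finset.insert_erase (hS.1.2.2 _ rfl)] at h3
  refine h2.trans ?_
  rw [Finset.card_powersetCard, Finset.card_erase_of_mem (Finset.mem_univ _), Finset.card_univ, Fintype.card_fin]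

end Cfsg.Agent.H758.EPX.Sub
end

-- part: H758/EPX/Diag
section
/-!
# S5745, `k ≥ 2`: the two-point stabilisers `M` with `M ∩ T_i = 1`, `M ∩ N ≠ 1` are of diagonal type
-/

set_option autoImplicit false
set_option linter.unusedSectionVars false

namespace Cfsg.Agent.H758.EPX

open Subgroup Cfsg.Agent.H284 Cfsg.Agent.H209.EPX

universe u

variable {G : Type u} [Group G] {H N : Subgroup G} {T : Type} [Group T] {k : ℕ} {e : N ≃* (Fin k → T)}

variable (e) in
/-- `M ∩ N` in coordinates -/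
def Dt (H : Subgroup G) (x : G) : Subgroup (Fin k → T) := (cj x H).comap (N.subtype.comp e.symm.toMonoidHom)

theorem mem_Dt {x : G} {f : Fin k → T} : f ∈ Dt e H x ↔ ((e.symm f : N) : G) ∈ cj x H := Iff.rfl

theorem mulSingle_mem_Dt {x : G} {i : Fin k} {t : T} : Pi.mulSingle i t ∈ Dt e H x ↔ t ∈ Kt e H x i := Iff.rfl

theorem apply_mem_Dt {x : G} {n : N} : e n ∈ Dt e H x ↔ (n : G) ∈ cj x H := by
  rw [mem_Dt, e.symm_apply_apply]

theorem center_T (hs : IsSimpleGroup T) (hna : ∃ a b : T, a * b ≠ b * a) {z : T} (hz : ∀ t : T, z * t = t * z) :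
    z = 1 := by
  have h0 : z ∈ Subgroup.center T := Subgroup.mem_center_iff.mpr fun g => (hz g).symm
  rcases hs.eq_bot_or_eq_top_of_normal (Subgroup.center T) inferInstance with h | h
  · rwa [h, Subgroup.mem_bot] at h0
  · exfalso
    obtain ⟨a, b, hab⟩ := hna
    have : b ∈ Subgroup.center T := by rw [h]; trivial
    exact hab (Subgroup.mem_center_iff.mp this a)

theorem coord_one (hs : IsSimpleGroup T) (hna : ∃ a b : T, a * b ≠ b * a) {n : N} {i : Fin k} :
    e n i = 1 ↔ ∀ a ∈ fc e i, (n : G) * a = a * n := by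
  constructor
  · rintro h _ ⟨t, rfl⟩
    have h1 := conj_inj e n i t
    rw [h, one_mul, inv_one, mul_one] at h1
    exact mul_inv_eq_iff_eq_mul.mp h1
  · intro h
    apply center_T hs hna
    intro t
    have h1 := conj_inj e n i t
    rw [h _ (inj_mem e i t), mul_inv_cancel_right] at h1
    have h2 := inj_injective e i h1
    exact (mul_inv_eq_iff_eq_mul.mp h2.symm)

/-- conjugation by `m ∈ H` in coordinates -/
theorem EPS.coord [Finite G] (h : EPS H N e) {m : G} (hm : m ∈ H) {i j : Fin k} (hj : cj m (fc e i) = fc e j) :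
    ∃ α : MulAut T, ∀ n : N, e ⟨m * n * m⁻¹, h.nrm m hm n n.2⟩ j = α (e n i) := by
  have hfin : Finite T := Finite.of_injective _ (inj_injective e i)
  have h1 : ∀ t : T, ∃ t' : T, inj e j t' = m * inj e i t * m⁻¹ := by
    intro t
    have h2 : m * inj e i t * m⁻¹ ∈ fc e j := by
      rw [← hj]
      exact conj_mem_cj (inj_mem e i t)
    exact h2
  choose f hf using h1
  let F : T →* T :=
    { toFun := f
      map_one' := by
        apply inj_injective e j
        rw [hf]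
        simp
      map_mul' := fun a b => by
        apply inj_injective e j
        rw [hf, map_mul, map_mul, hf, hf]
        group }
  have hF : Function.Injective F := by
    intro a b hab
    have h2 : inj e j (f a) = inj e j (f b) := congrArg (inj e j) hab
    rw [hf, hf] at h2
    exact inj_injective e i (mul_left_cancel (mul_right_cancel h2))
  refine ⟨MulEquiv.ofBijective F (Finite.injective_iff_bijective.1 hF), fun n => ?_⟩
  -- split off the `i`-th coordinate
  set t := e n i with ht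
  let n' : N := n * (e.symm (Pi.mulSingle i t))⁻¹
  have hn' : e n' i = 1 := by
    simp [n', map_mul, map_inv, ht]
  have hc := (coord_one h.simple h.nab).mp hn'
  have hc' : ∀ a ∈ fc e j, m * (n' : G) * m⁻¹ * a = a * (m * (n' : G) * m⁻¹) := by
    intro a ha
    rw [← hj, mem_cj] at ha
    have h3 := hc _ ha
    calc m * (n' : G) * m⁻¹ * a = m * ((n' : G) * (m⁻¹ * a * m)) * m⁻¹ := by group
      _ = m * ((m⁻¹ * a * m) * (n' : G)) * m⁻¹ := by rw [h3]
      _ = a * (m * (n' : G) * m⁻¹) := by group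
  have h4 : e ⟨m * n' * m⁻¹, h.nrm m hm n' n'.2⟩ j = 1 := (coord_one h.simple h.nab).mpr hc'
  have h5 : (⟨m * n * m⁻¹, h.nrm m hm n n.2⟩ : N) =
      ⟨m * n' * m⁻¹, h.nrm m hm n' n'.2⟩ * ⟨inj e j (f t), inj_mem_N e j (f t)⟩ := by
    apply Subtype.ext
    change m * (n : G) * m⁻¹ = m * (n' : G) * m⁻¹ * inj e j (f t)
    rw [hf]
    have h6 : (n : G) = n' * inj e i t := by
      change (n : G) = ((n * (e.symm (Pi.mulSingle i t))⁻¹ : N) : G) * inj e i t
      rw [Subgroup.coe_mul, inj_apply, InvMemClass.coe_inv, inv_mul_cancel_right]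
    rw [h6]
    group
  rw [h5, map_mul, Pi.mul_apply, h4, one_mul, e_inj, Pi.mulSingle_eq_same]
  rfl

/-- **diagonal type** -/
theorem EPS.subdirect [Finite G] (h : EPS H N e) {x : G} (hx : x ∉ H) (h0 : ∀ i, Kt e H x i = ⊥)
    (hD : Dt e H x ≠ ⊥) : Sub.Sd (Dt e H x) := by
  let Di : Fin k → Subgroup T := fun i => (Dt e H x).map (Pi.evalMonoidHom (fun _ : Fin k => T) i)
  let P : Subgroup G := ((Subgroup.pi Set.univ Di).map e.symm.toMonoidHom).map N.subtype
  have hP : ∀ n : N, (n : G) ∈ P ↔ ∀ i, e n i ∈ Di i := by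
    intro n
    constructor
    · rintro ⟨n', ⟨f, hf, rfl⟩, hn'⟩
      have h1 : n = e.symm f := Subtype.ext hn'.symm
      intro i
      rw [h1, e.apply_symm_apply]
      exact hf i trivial
    · intro hn
      exact ⟨n, ⟨e n, fun i _ => hn i, e.symm_apply_apply n⟩, rfl⟩
  have hPN : P ≤ N := by
    rintro _ ⟨n, _, rfl⟩
    exact n.2
  have hDP : ∀ f ∈ Dt e H x, ((e.symm f : N) : G) ∈ P := by
    intro f hf
    rw [hP]
    intro i
    rw [e.apply_symm_apply]
    exact ⟨f, hf, rfl⟩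
  have hMP : ∀ m ∈ H ⊓ cj x H, ∀ p ∈ P, m * p * m⁻¹ ∈ P := by
    intro m hm p hp
    have hmH := (mem_inf.1 hm).1
    have h1 := (hP ⟨m * p * m⁻¹, h.nrm m hmH p (hPN hp)⟩).mpr
    refine h1 fun j => ?_
    obtain ⟨i, hi⟩ := EPS.exists_cj h (H.inv_mem hmH) j
    have hij : cj m (fc e i) = fc e j := by rw [← hi, cj_cj_inv]
    obtain ⟨α, hα⟩ := EPS.coord h hmH hij
    have h2 := hα ⟨p, hPN hp⟩
    have h3 : e ⟨m * p * m⁻¹, h.nrm m hmH p (hPN hp)⟩ j = α (e ⟨p, hPN hp⟩ i) := h2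
    rw [h3]
    obtain ⟨d, hd, hdi⟩ := (hP ⟨p, hPN hp⟩).mp hp i
    rw [← hdi]
    have h4 := hα (e.symm d)
    rw [e.apply_symm_apply] at h4
    refine ⟨e ⟨m * (e.symm d : N) * m⁻¹, h.nrm m hmH _ (e.symm d).2⟩, ?_, ?_⟩
    · rw [SetLike.mem_coe, apply_mem_Dt]
      exact (cj x H).mul_mem ((cj x H).mul_mem (mem_inf.1 hm).2 hd) ((cj x H).inv_mem (mem_inf.1 hm).2)
    · exact h4
  have hML : H ⊓ cj x H ≤ H ⊓ normalizer (P : Set G) := by
    intro m hm
    refine ⟨(mem_inf.1 hm).1, mem_normalizer_iff.mpr fun p => ⟨fun hp => hMP m hm p hp, fun hp => ?_⟩⟩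
    have h1 := hMP m⁻¹ ((H ⊓ cj x H).inv_mem hm) _ hp
    have h2 : m⁻¹ * (m * p * m⁻¹) * m⁻¹⁻¹ = p := by group
    rwa [h2] at h1
  rcases h.ep.two x hx _ hML inf_le_left with hL | hL
  · exfalso
    have h1 : P ≤ cj x H := by
      have : P ≤ H ⊓ normalizer (P : Set G) := fun p hp => ⟨h.le (hPN hp), le_normalizer hp⟩
      rw [hL] at this
      exact this.trans inf_le_right
    apply hD
    rw [Subgroup.eq_bot_iff_forall]
    intro f hf
    funext i
    have h2 : inj e i (f i) ∈ P := by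
      rw [show inj e i (f i) = (((⟨inj e i (f i), inj_mem_N e i (f i)⟩ : N)) : G) from rfl, hP]
      intro j
      rw [e_inj]
      by_cases hj : j = i
      · subst hj
        rw [Pi.mulSingle_eq_same]
        exact ⟨f, hf, rfl⟩
      · rw [Pi.mulSingle_eq_of_ne hj]
        exact one_mem _
    have h3 : f i ∈ Kt e H x i := h1 h2
    rw [h0, Subgroup.mem_bot] at h3
    exact h3
  · have hNP : N ≤ P := by
      refine h.least P ⟨hPN.trans h.le, fun g hg p hp => ?_⟩ ?_
      · rw [← hL] at hg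
        exact (mem_normalizer_iff.mp (mem_inf.1 hg).2 p).mp hp
      · intro hP0
        apply hD
        rw [Subgroup.eq_bot_iff_forall]
        intro f hf
        have h1 := hDP f hf
        rw [hP0, Subgroup.mem_bot] at h1
        have h2 : e.symm f = 1 := Subtype.ext h1
        exact (map_eq_one_iff e.symm e.symm.injective).mp h2
    intro i t
    have h1 := (hP (e.symm (Pi.mulSingle i t))).mp (hNP (e.symm (Pi.mulSingle i t)).2) i
    rw [e.apply_symm_apply, Pi.mulSingle_eq_same] at h1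
    obtain ⟨d, hd, hdi⟩ := h1
    exact ⟨d, hd, hdi⟩

theorem EPS.Dt_mem_Dg [Finite G] (h : EPS H N e) {x : G} (hx : x ∉ H) (h0 : ∀ i, Kt e H x i = ⊥)
    (hD : Dt e H x ≠ ⊥) : Dt e H x ∈ Sub.Dg T k :=
  ⟨EPS.subdirect h hx h0 hD, fun i t ht => by
    have : t ∈ Kt e H x i := ht
    rwa [h0, Subgroup.mem_bot] at this⟩

/-- `M` is determined by `M ∩ N ≠ 1` -/
theorem EPS.eq_of_Dt [Finite G] (h : EPS H N e) {x y : G} (hx : x ∉ H) (hy : y ∉ H) (hD : Dt e H x ≠ ⊥)
    (hxy : Dt e H x = Dt e H y) : H ⊓ cj x H = H ⊓ cj y H := by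
  have key : ∀ x y : G, x ∉ H → y ∉ H → Dt e H x ≠ ⊥ → Dt e H x = Dt e H y → H ⊓ cj x H ≤ H ⊓ cj y H := by
    intro x y hx hy hD hxy m hm
    have hE : ∀ n ∈ N, (n ∈ cj x H ↔ n ∈ cj y H) := by
      intro n hn
      have h1 := apply_mem_Dt (e := e) (H := H) (x := x) (n := ⟨n, hn⟩)
      have h2 := apply_mem_Dt (e := e) (H := H) (x := y) (n := ⟨n, hn⟩)
      rw [hxy] at h1
      exact h1.symm.trans h2
    refine ⟨(mem_inf.1 hm).1, h.ep.norm hy (X := cj y H ⊓ N) ?_ ?_ ?_ (mem_inf.1 hm).1 ?_⟩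
    · exact le_inf (inf_le_right.trans h.le) inf_le_left
    · intro m hm z hz
      exact ⟨(cj y H).mul_mem ((cj y H).mul_mem (mem_inf.1 hm).2 (mem_inf.1 hz).1) ((cj y H).inv_mem (mem_inf.1 hm).2),
        h.nrm m (mem_inf.1 hm).1 z (mem_inf.1 hz).2⟩
    · intro h0
      apply hD
      rw [Subgroup.eq_bot_iff_forall]
      intro f hf
      have h1 : ((e.symm f : N) : G) ∈ cj y H ⊓ N := ⟨(hE _ (e.symm f).2).mp hf, (e.symm f).2⟩
      rw [h0, Subgroup.mem_bot] at h1
      have h2 : e.symm f = 1 := Subtype.ext h1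
      exact (map_eq_one_iff e.symm e.symm.injective).mp h2
    · intro z hz
      have hzN := (mem_inf.1 hz).2
      have hzx := (hE z hzN).mpr (mem_inf.1 hz).1
      have h3 := h.nrm m (mem_inf.1 hm).1 z hzN
      exact ⟨(hE _ h3).mp ((cj x H).mul_mem ((cj x H).mul_mem (mem_inf.1 hm).2 hzx) ((cj x H).inv_mem (mem_inf.1 hm).2)), h3⟩
  exact le_antisymm (key x y hx hy hD hxy) (key y x hy hx (hxy ▸ hD) hxy.symm)

/-- **the number of two-point stabilisers of diagonal type** -/
theorem EPS.ncard_diag_le [Finite G] (h : EPS H N e) :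
    {M : Subgroup G | ∃ x, x ∉ H ∧ M = H ⊓ cj x H ∧ (∀ i, Kt e H x i = ⊥) ∧ Dt e H x ≠ ⊥}.ncard ≤ (Sub.Dg T k).ncard := by
  have hfin : Finite T := Finite.of_injective _ (inj_injective e ⟨0, h.pos⟩)
  refine Set.ncard_le_ncard_of_injOn (fun M => M.comap (N.subtype.comp e.symm.toMonoidHom)) ?_ ?_ (Set.toFinite _)
  · rintro _ ⟨x, hx, rfl, h0, hD⟩
    have h1 : (H ⊓ cj x H).comap (N.subtype.comp e.symm.toMonoidHom) = Dt e H x := by
      ext f
      exact ⟨fun hf => (mem_inf.1 hf).2, fun hf => ⟨h.le (e.symm f).2, hf⟩⟩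
    show (H ⊓ cj x H).comap (N.subtype.comp e.symm.toMonoidHom) ∈ _
    rw [h1]
    exact EPS.Dt_mem_Dg h hx h0 hD
  · rintro _ ⟨x, hx, rfl, _, hD⟩ _ ⟨y, hy, rfl, _, hD'⟩ hxy
    apply EPS.eq_of_Dt h hx hy hD
    have h1 : ∀ x : G, (H ⊓ cj x H).comap (N.subtype.comp e.symm.toMonoidHom) = Dt e H x := by
      intro x
      ext f
      exact ⟨fun hf => (mem_inf.1 hf).2, fun hf => ⟨h.le (e.symm f).2, hf⟩⟩
    rw [← h1, ← h1]
    exact hxy

end Cfsg.Agent.H758.EPX
end

-- part: H758/EPX/Count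
section
/-!
# S5745, `k ≥ 2`: the number of two-point stabilisers `M` with `M ∩ T_i ≠ 1` is at most `|LocK T|^k`
-/

set_option autoImplicit false
set_option linter.unusedSectionVars false

namespace Cfsg.Agent.H758.EPX

open Subgroup Cfsg.Agent.H284 Cfsg.Agent.H209.EPX

universe u

variable {G : Type u} [Group G] {H N : Subgroup G} {T : Type} [Group T] {k : ℕ} {e : N ≃* (Fin k → T)}

theorem EPS.mem_LocK [Finite G] (h : EPS H N e) {x : G} (hx : x ∉ H) {i : Fin k} (hi : Kt e H x i ≠ ⊥) :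
    Kt e H x i ∈ Cfsg.Agent.H273.EPU.LocK T :=
  ⟨hi, fun Y hY hY0 _ ht => EPS.norm_le h hx i Y hY hY0 ht⟩

theorem EPS.ncard_le [Finite G] (h : EPS H N e) :
    {M : Subgroup G | ∃ x, x ∉ H ∧ M = H ⊓ cj x H ∧ ∃ i, Kt e H x i ≠ ⊥}.ncard ≤
      (Cfsg.Agent.H273.EPU.LocK T \ {⊤}).ncard ^ k := by
  classical
  have hpos := h.pos
  have hfin : Finite T := Finite.of_injective _ (inj_injective e ⟨0, hpos⟩)
  have hc : (Set.pi Set.univ (fun _ : Fin k => Cfsg.Agent.H273.EPU.LocK T \ {⊤})).ncard =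
      (Cfsg.Agent.H273.EPU.LocK T \ {⊤}).ncard ^ k := by
    rw [← Nat.card_coe_set_eq, ← Nat.card_coe_set_eq]
    rw [Nat.card_congr (Equiv.Set.univPi (fun _ : Fin k => Cfsg.Agent.H273.EPU.LocK T \ {⊤}))]
    rw [Nat.card_fun]
    simp only [_root_.Nat.card_coe_set_eq, _root_.Nat.card_eq_fintype_card, _root_.Fintype.card_fin]
  rw [← hc]
  refine Set.ncard_le_ncard_of_injOn (fun M i => M.comap (inj e i)) ?_ ?_ (Set.toFinite _)
  · rintro _ ⟨x, hx, rfl, i, hi⟩
    intro j _
    have h1 : (H ⊓ cj x H).comap (inj e j) = Kt e H x j := by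
      ext t
      exact ⟨fun ht => (mem_inf.1 ht).2, fun ht => ⟨h.le (inj_mem_N e j t), ht⟩⟩
    show (H ⊓ cj x H).comap (inj e j) ∈ _
    rw [h1]
    exact ⟨EPS.mem_LocK h hx (EPS.Kt_ne h hx hi j), EPS.Kt_ne_top h hx j⟩
  · rintro _ ⟨x, hx, rfl, i, hi⟩ _ ⟨y, hy, rfl, i', hi'⟩ hxy
    apply EPS.eq_of_Kt h hx hy hi
    intro j
    have h1 : ∀ x : G, (H ⊓ cj x H).comap (inj e j) = Kt e H x j := by
      intro x
      ext t
      exact ⟨fun ht => (mem_inf.1 ht).2, fun ht => ⟨h.le (inj_mem_N e j t), ht⟩⟩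
    rw [← h1, ← h1]
    exact congrFun hxy j

end Cfsg.Agent.H758.EPX
end

-- part: H758/EPX/Reg
section
/-!
# S5745, `2 ≤ k ≤ 5`: the case `M ∩ N = 1` does not occur
-/

set_option autoImplicit false
set_option linter.unusedSectionVars false

namespace Cfsg.Agent.H758.EPX

open Subgroup Cfsg.Agent.H284 Cfsg.Agent.H209.EPX Cfsg.Agent.Schreier.Basic

universe u

variable {G : Type u} [Group G] {H N : Subgroup G} {T : Type} [Group T] {k : ℕ} {e : N ≃* (Fin k → T)}

/-- a perfect group of permutations of `Fin k` (`k ≤ 5`) fixing a point is trivial -/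
theorem perm_perfect (hk : k ≤ 5) (i0 : Fin k) {P : Subgroup (Equiv.Perm (Fin k))} (hP : ⁅P, P⁆ = P)
    (hfix : ∀ p ∈ P, p i0 = i0) : P = ⊥ := by
  apply eq_bot_of_perfect_of_solvable hP
  have h1 : P ≤ MulAction.stabilizer (Equiv.Perm (Fin k)) i0 := fun p hp => hfix p hp
  have h2 : Nat.card (MulAction.stabilizer (Equiv.Perm (Fin k)) i0) < 60 := by
    have h3 := Subgroup.card_mul_index (MulAction.stabilizer (Equiv.Perm (Fin k)) i0)
    rw [MulAction.index_stabilizer_of_transitive, Nat.card_perm, Nat.card_eq_fintype_card (α := Fin k),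
      Fintype.card_fin] at h3
    have hk0 : 0 < k := i0.pos
    generalize Nat.card (MulAction.stabilizer (Equiv.Perm (Fin k)) i0) = c at h3 ⊢
    have h5 : k = 1 ∨ k = 2 ∨ k = 3 ∨ k = 4 ∨ k = 5 := by omega
    rcases h5 with rfl | rfl | rfl | rfl | rfl <;> simp [Nat.factorial] at h3 <;> omega
  have h3 : Group.IsSolvable (MulAction.stabilizer (Equiv.Perm (Fin k)) i0) := Cfsg.Agent.BpAlt.solvable_of_lt _ _ rfl h2
  exact Group.isSolvable_of_isSolvable_injective (f := Subgroup.inclusion h1) (Subgroup.inclusion_injective h1)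

/-- the action of `H` on the factors -/
noncomputable def perm [Finite G] (h : EPS H N e) : H →* Equiv.Perm (Fin k) := by
  choose f hf using fun (g : H) (i : Fin k) => EPS.exists_cj h g.2 i
  have h1 : f 1 = id := by
    funext i
    apply fc_injective e h.simple
    rw [← hf]
    exact cj_one _
  have h2 : ∀ a b : H, f (a * b) = f a ∘ f b := by
    intro a b
    funext i
    apply fc_injective e h.simple
    rw [← hf, Function.comp, ← hf, ← hf, ← cj_mul]
    rfl
  exact
    { toFun := fun g => ⟨f g, f g⁻¹, fun i => by rw [← Function.comp_apply (f := f g⁻¹), ← h2, inv_mul_cancel, h1]; rfl,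
        fun i => by rw [← Function.comp_apply (f := f g), ← h2, mul_inv_cancel, h1]; rfl⟩
      map_one' := by
        ext i
        show ((f 1 i : Fin k) : ℕ) = _
        rw [h1]; rfl
      map_mul' := fun a b => by
        ext i
        show ((f (a * b) i : Fin k) : ℕ) = _
        rw [h2]; rfl }

theorem perm_spec [Finite G] (h : EPS H N e) (g : H) (i : Fin k) : cj (g : G) (fc e i) = fc e (perm h g i) :=
  Classical.choose_spec (EPS.exists_cj h g.2 i)

/-- an element inducing inner automorphisms on all factors lies in `N` -/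
theorem EPS.mem_of_inner (h : EPS H N e) {g : G}
    (hg : ∀ i, ∃ t : T, ∀ s : T, g * inj e i s * g⁻¹ = inj e i (t * s * t⁻¹)) : g ∈ N := by
  choose t ht using hg
  have h1 : ((e.symm t : N) : G)⁻¹ * g ∈ Subgroup.centralizer (N : Set G) := by
    have h2 : N ≤ Subgroup.centralizer ({((e.symm t : N) : G)⁻¹ * g} : Set G) := by
      refine (N_le_iSup e).trans (iSup_le fun i => ?_)
      rintro _ ⟨s, rfl⟩
      rw [Subgroup.mem_centralizer_singleton_iff]
      have h3 := conj_inj e (e.symm t) i s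
      rw [e.apply_symm_apply, ← ht] at h3
      have h4 : inj e i s = ((e.symm t : N) : G)⁻¹ * (((e.symm t : N) : G) * inj e i s * ((e.symm t : N) : G)⁻¹) *
          ((e.symm t : N) : G) := by group
      rw [h3] at h4
      have h5 : ((e.symm t : N) : G)⁻¹ * g * inj e i s = inj e i s * (((e.symm t : N) : G)⁻¹ * g) := by
        nth_rewrite 2 [h4]
        group
      exact h5.symm
    intro n hn
    exact Subgroup.mem_centralizer_singleton_iff.mp (h2 hn)
  rw [h.cent, Subgroup.mem_bot] at h1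
  rw [inv_mul_eq_one.mp h1 |>.symm]
  exact (e.symm t).2

/-- the perfect subgroups of `H` normalising all the factors lie in `N` -/
theorem EPS.perfect_le (h : EPS H N e) (hsch : Sch T) {P : Subgroup G} (hP : ⁅P, P⁆ = P)
    (hn : ∀ p ∈ P, ∀ i, cj p (fc e i) = fc e i) : P ≤ N := by
  have key : ∀ i, ∀ p ∈ P, ∃ t : T, ∀ s : T, p * inj e i s * p⁻¹ = inj e i (t * s * t⁻¹) := by
    intro i
    have hle : P ≤ Subgroup.normalizer (fc e i : Set G) := by
      intro p hp
      rw [Subgroup.mem_normalizer_iff]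
      intro n
      constructor
      · intro hnn
        rw [← hn p hp i]
        exact conj_mem_cj hnn
      · intro hnn
        rw [← hn p hp i] at hnn
        obtain ⟨m, hm, hmn⟩ := hnn
        have : m = n := by
          have h1 : p * m * p⁻¹ = p * n * p⁻¹ := hmn
          exact mul_left_cancel (mul_right_cancel h1)
        exact this ▸ hm
    let φ : P →* MulAut (fc e i) := ((fc e i).normalizerMonoidHom).comp (inclusion hle)
    have hφ : ∀ (m : P) (n : fc e i), ((φ m n : fc e i) : G) = m * n * (m : G)⁻¹ := fun m n => rfl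
    have hs : Sch (fc e i) := Sch.of_equiv (MonoidHom.ofInjective (inj_injective e i)) hsch
    have hP' : ⁅(⊤ : Subgroup P), (⊤ : Subgroup P)⁆ = ⊤ := by
      apply Subgroup.map_injective P.subtype_injective
      rw [Subgroup.map_commutator, ← MonoidHom.range_eq_map, Subgroup.range_subtype, hP]
    have h1 := hs _ (map_perfect φ hP')
    intro p hp
    obtain ⟨c, hc⟩ := h1 ⟨⟨p, hp⟩, trivial, rfl⟩
    obtain ⟨t, ht⟩ := c.2
    refine ⟨t, fun s => ?_⟩
    have h2 := hφ ⟨p, hp⟩ ⟨inj e i s, inj_mem e i s⟩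
    have h3 : ((φ ⟨p, hp⟩ ⟨inj e i s, inj_mem e i s⟩ : fc e i) : G) = c * inj e i s * (c : G)⁻¹ := by
      rw [← hc]; rfl
    rw [← h2, h3, ← ht]
    simp only [map_mul, _root_.map_inv]
  intro p hp
  exact EPS.mem_of_inner h fun i => key i p hp

/-- **`M ∩ N ≠ 1`** for `k ≤ 5` -/
theorem EPS.Dt_ne_bot [Finite G] (h : EPS H N e) (hsch : Sch T) (hk : k ≤ 5) {x : G} (hx : x ∉ H) :
    Dt e H x ≠ ⊥ := by
  intro hD
  have hfin : Finite T := Finite.of_injective _ (inj_injective e ⟨0, h.pos⟩)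
  set M := H ⊓ cj x H with hM
  have hMN : ∀ m ∈ M, m ∈ N → m = 1 := by
    intro m hm hmN
    have h1 : e ⟨m, hmN⟩ ∈ Dt e H x := (apply_mem_Dt (n := ⟨m, hmN⟩)).mpr (mem_inf.1 hm).2
    rw [hD, Subgroup.mem_bot, map_eq_one_iff e e.injective] at h1
    exact congrArg Subtype.val h1
  set i0 : Fin k := ⟨0, h.pos⟩ with hi0
  let M₁ : Subgroup G :=
    { carrier := {m | m ∈ M ∧ cj m (fc e i0) = fc e i0}
      one_mem' := ⟨M.one_mem, cj_one _⟩
      mul_mem' := by
        rintro a b ⟨ha, ha'⟩ ⟨hb, hb'⟩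
        exact ⟨M.mul_mem ha hb, by rw [cj_mul, hb', ha']⟩
      inv_mem' := by
        rintro a ⟨ha, ha'⟩
        refine ⟨M.inv_mem ha, ?_⟩
        nth_rewrite 1 [← ha']
        rw [← cj_mul, inv_mul_cancel, cj_one] }
  have hM₁ : ∀ m, m ∈ M₁ ↔ m ∈ M ∧ cj m (fc e i0) = fc e i0 := fun m => Iff.rfl
  -- `M₁` is solvable
  have hsol : Group.IsSolvable M₁ := by
    apply isSolvable_of_perfect_eq_bot
    intro P hPM hP
    have hPH : P ≤ H := fun p hp => (mem_inf.1 ((hM₁ p).mp (hPM hp)).1).1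
    have h1 : (⊤ : Subgroup P).map ((perm h).comp (inclusion hPH)) = ⊥ := by
      apply perm_perfect hk i0
      · apply map_perfect
        apply Subgroup.map_injective P.subtype_injective
        rw [Subgroup.map_commutator, ← MonoidHom.range_eq_map, Subgroup.range_subtype, hP]
      · rintro _ ⟨p, _, rfl⟩
        apply fc_injective e h.simple
        exact (perm_spec h (inclusion hPH p) i0).symm.trans ((hM₁ p).mp (hPM p.2)).2
    have h2 : P ≤ N := by
      apply EPS.perfect_le h hsch hP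
      intro p hp i
      have h3 : perm h (inclusion hPH ⟨p, hp⟩) = 1 := by
        have : (perm h).comp (inclusion hPH) ⟨p, hp⟩ ∈ (⊤ : Subgroup P).map ((perm h).comp (inclusion hPH)) :=
          ⟨_, trivial, rfl⟩
        rw [h1, Subgroup.mem_bot] at this
        exact this
      have h4 := perm_spec h (inclusion hPH ⟨p, hp⟩) i
      rw [h3] at h4
      exact h4
    rw [eq_bot_iff]
    intro p hp
    rw [Subgroup.mem_bot]
    exact hMN p ((hM₁ p).mp (hPM hp)).1 (h2 hp)
  -- the factor has no `M₁`-invariant subgroup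
  have hirr : ∀ L : Subgroup G, L ≤ fc e i0 → (∀ m ∈ M₁, ∀ l ∈ L, m * l * m⁻¹ ∈ L) → L = ⊥ ∨ L = fc e i0 := by
    intro L hL hLM
    by_contra hcon
    push Not at hcon
    obtain ⟨hL0, hL1⟩ := hcon
    have hXN : ncl M L ≤ N := by
      refine iSup₂_le fun m hm => ?_
      rintro _ ⟨l, hl, rfl⟩
      exact h.nrm m (mem_inf.1 hm).1 l (fc_le e i0 (hL hl))
    -- the first coordinate
    have hco : ∀ n : N, (n : G) ∈ ncl M L → inj e i0 (e n i0) ∈ L := by
      intro n hn
      let S : Subgroup N := (L.comap (inj e i0)).comap ((Pi.evalMonoidHom (fun _ : Fin k => T) i0).comp e.toMonoidHom)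
      have hS : ncl M L ≤ S.map N.subtype := by
        refine iSup₂_le fun m hm => ?_
        rintro _ ⟨l, hl, rfl⟩
        have hlN := fc_le e i0 (hL hl)
        have h2 : m * l * m⁻¹ ∈ N := h.nrm m (mem_inf.1 hm).1 l hlN
        refine ⟨⟨_, h2⟩, ?_, rfl⟩
        show inj e i0 (e ⟨m * l * m⁻¹, h2⟩ i0) ∈ L
        obtain ⟨j, hj⟩ := EPS.exists_cj h (mem_inf.1 hm).1 i0
        have h3 : m * l * m⁻¹ ∈ fc e j := by
          rw [← hj]
          exact conj_mem_cj (hL hl)
        obtain ⟨t, ht⟩ := h3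
        have h4 : (⟨m * l * m⁻¹, h2⟩ : N) = ⟨inj e j t, inj_mem_N e j t⟩ := Subtype.ext ht.symm
        rw [h4, e_inj]
        by_cases hij : j = i0
        · subst hij
          rw [Pi.mulSingle_eq_same, ht]
          exact hLM m ((hM₁ m).mpr ⟨hm, hj⟩) l hl
        · rw [Pi.mulSingle_eq_of_ne (Ne.symm hij), map_one]
          exact L.one_mem
      obtain ⟨n', hn', hnn⟩ := hS hn
      have : n' = n := Subtype.ext hnn
      exact this ▸ hn'
    -- `M · ncl M L = H`
    have h5 : M ⊔ ncl M L ≤ H := sup_le inf_le_left (hXN.trans h.le)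
    rcases h.ep.two x hx _ (le_sup_left : M ≤ M ⊔ ncl M L) h5 with h6 | h6
    · apply hL0
      rw [eq_bot_iff]
      intro l hl
      rw [Subgroup.mem_bot]
      have h7 : l ∈ M ⊔ ncl M L := (le_ncl M L |>.trans le_sup_right) hl
      rw [h6] at h7
      exact hMN l h7 (fc_le e i0 (hL hl))
    · apply hL1
      apply le_antisymm hL
      rintro _ ⟨t, rfl⟩
      have h7 : inj e i0 t ∈ M ⊔ ncl M L := by
        rw [h6]
        exact h.le (inj_mem_N e i0 t)
      obtain ⟨n, hn, m, hm, hnm⟩ := mem_sup_norm (fun m hm n hn => ncl_conj hm hn) h7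
      have h8 : m ∈ N := by
        have : m = n⁻¹ * inj e i0 t := by rw [hnm]; group
        rw [this]
        exact N.mul_mem (N.inv_mem (hXN hn)) (inj_mem_N e i0 t)
      rw [hMN m hm h8, mul_one] at hnm
      have h9 := hco ⟨inj e i0 t, inj_mem_N e i0 t⟩ (show inj e i0 t ∈ ncl M L from hnm ▸ hn)
      rw [e_inj, Pi.mulSingle_eq_same] at h9
      exact h9
  have hr := reg_sub (M := M₁) (N := fc e i0) (fun m hm n hn => by
    rw [← ((hM₁ m).mp hm).2]
    exact conj_mem_cj hn) hsol hirr (fc_ne_bot e h.simple i0)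
  obtain ⟨a, b, hab⟩ := h.nab
  apply hab
  apply inj_injective e i0
  rw [map_mul, map_mul]
  exact hr.1 _ (inj_mem e i0 a) _ (inj_mem e i0 b)

/-- **the number of two-point stabilisers** (`k ≤ 5`) -/
theorem EPS.ncard_total [Finite G] (h : EPS H N e) (hsch : Sch T) (hk : k ≤ 5) :
    {M : Subgroup G | ∃ x, x ∉ H ∧ M = H ⊓ cj x H}.ncard ≤
      (Cfsg.Agent.H273.EPU.LocK T \ {⊤}).ncard ^ k + (Sub.Dg T k).ncard := by
  refine (Set.ncard_le_ncard ?_ (Set.toFinite _)).trans ((Set.ncard_union_le _ _).trans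
    (add_le_add (EPS.ncard_le h) (EPS.ncard_diag_le h)))
  rintro M ⟨x, hx, hM⟩
  by_cases h0 : ∃ i, Kt e H x i ≠ ⊥
  · exact Or.inl ⟨x, hx, hM, h0⟩
  · push Not at h0
    exact Or.inr ⟨x, hx, hM, h0, EPS.Dt_ne_bot h hsch hk hx⟩

end Cfsg.Agent.H758.EPX
end

private theorem dce_8912fb632817 : _root_.True := by
  try have : _root_.True := by simp only [_root_.Cfsg.Agent.H758.EPX.Sub.fx.eq_1]
  try have : _root_.True := by simp only [_root_.Cfsg.Agent.H758.EPX.Sub.ok.eq_1]
  try have : _root_.True := by simp only [_root_.Cfsg.Agent.H758.EPX.Sub.rep.congr_simp]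
  exact _root_.True.intro
end

-- part: H758/EPX/Sizes
section
set_option linter.all false
open scoped Cfsg.Agent.FastGrp

/-!
# S5745, `k ≥ 2`: the orders of `H` and of the two-point stabilisers
-/

set_option autoImplicit false
set_option linter.unusedSectionVars false

namespace Cfsg.Agent.H758.EPX

open Subgroup Cfsg.Agent.H284 Cfsg.Agent.H209.EPX

universe u

/-- the members of `LocK T` are not abelian (Burnside's transfer theorem) -/
theorem locK_nonab {T : Type u} [Group T] [Finite T] (hs : IsSimpleGroup T) (hna : ∃ a b : T, a * b ≠ b * a)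
    {K : Subgroup T} (hK : K ∈ Cfsg.Agent.H273.EPU.LocK T) : ∃ a ∈ K, ∃ b ∈ K, a * b ≠ b * a := by
  by_contra hcon
  push Not at hcon
  obtain ⟨hK0, hKn⟩ := hK
  have hc1 : Nat.card K ≠ 1 := fun h => hK0 (Subgroup.card_eq_one.1 h)
  obtain ⟨r, hr, hrK⟩ := Nat.exists_prime_and_dvd hc1
  have := Fact.mk hr
  let R : Sylow r K := default
  have hRn : (R : Subgroup K).Normal := by
    constructor
    intro n hn g
    have : g * n * g⁻¹ = n := by
      apply Subtype.ext
      show (g : T) * n * (g : T)⁻¹ = n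
      rw [hcon _ g.2 _ n.2, mul_inv_cancel_right]
    rw [this]
    exact hn
  have hRc : (R : Subgroup K).Characteristic := R.characteristic_of_normal hRn
  have hR0 : (R : Subgroup K) ≠ ⊥ := R.ne_bot_of_dvd_card hrK
  have hN := hKn _ hRc hR0
  have hRp : IsPGroup r ((R : Subgroup K).map K.subtype) := R.isPGroup'.map _
  obtain ⟨P, hP⟩ := hRp.exists_le_sylow
  have hAP : (R : Subgroup K).map K.subtype = (P : Subgroup T) := by
    by_contra hne
    have hlt : (R : Subgroup K).map K.subtype < (P : Subgroup T) := lt_of_le_of_ne hP hne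
    have h1 : ((R : Subgroup K).map K.subtype).subgroupOf (P : Subgroup T) < ⊤ := by
      rw [lt_top_iff_ne_top]
      intro e
      rw [Subgroup.subgroupOf_eq_top] at e
      exact hlt.not_ge e
    have hnil : Group.IsNilpotent (P : Subgroup T) := P.isPGroup'.isNilpotent
    have h2 := Group.normalizerCondition_of_isNilpotent (G := (P : Subgroup T)) _ h1
    obtain ⟨y, hy, hyn⟩ := SetLike.exists_of_lt h2
    apply hyn
    have h3 : (y : T) ∈ K := by
      apply hN
      rw [Subgroup.mem_normalizer_iff]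
      intro n
      constructor
      · intro hn
        have h4 : (⟨n, hP hn⟩ : (P : Subgroup T)) ∈ ((R : Subgroup K).map K.subtype).subgroupOf (P : Subgroup T) := hn
        exact (Subgroup.mem_normalizer_iff.1 hy _).1 h4
      · intro hn
        have hnP : n ∈ (P : Subgroup T) := by
          have h5 := (P : Subgroup T).mul_mem ((P : Subgroup T).mul_mem ((P : Subgroup T).inv_mem y.2) (hP hn)) y.2
          have h6 : (y : T)⁻¹ * ((y : T) * n * (y : T)⁻¹) * y = n := by group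
          rwa [h6] at h5
        exact (Subgroup.mem_normalizer_iff.1 hy (⟨n, hnP⟩ : (P : Subgroup T))).2 hn
    -- `y` is an `r`-element of `K`
    have h4 : IsPGroup r ((P : Subgroup T).subgroupOf K) := by
      have := P.isPGroup'.comap_of_injective K.subtype K.subtype_injective
      exact this
    have h5 : (P : Subgroup T).subgroupOf K ≤ (R : Subgroup K) := by
      have h6 : (P : Subgroup T).subgroupOf K ⊔ (R : Subgroup K) = (R : Subgroup K) := by
        apply R.is_maximal'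
        · exact IsPGroup.to_sup_of_normal_right h4 R.isPGroup'
        · exact le_sup_right
      exact le_sup_left.trans h6.le
    exact ⟨⟨y, h3⟩, h5 (show (y : T) ∈ (P : Subgroup T) from y.2), rfl⟩
  have hcomp : Subgroup.IsComplement' (MonoidHom.transferSylow P (by
      intro y hy
      rw [Subgroup.mem_centralizer_iff]
      have h3 : y ∈ K := by
        apply hN
        rw [hAP]
        exact hy
      intro z hz
      have hz' : z ∈ K := by
        have : z ∈ (R : Subgroup K).map K.subtype := by rw [hAP]; exact hz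
        obtain ⟨w, _, rfl⟩ := this
        exact w.2
      exact hcon _ hz' _ h3)).ker (P : Subgroup T) := MonoidHom.ker_transferSylow_isComplement' P _
  have hPK : (P : Subgroup T) ≤ K := by
    rw [← hAP]
    rintro _ ⟨w, _, rfl⟩
    exact w.2
  rcases (MonoidHom.normal_ker (MonoidHom.transferSylow P _)).eq_bot_or_eq_top with h3 | h3
  · rw [h3, Subgroup.isComplement'_bot_left] at hcomp
    obtain ⟨a, b, hab⟩ := hna
    have h4 : K = ⊤ := top_le_iff.1 (hcomp ▸ hPK)
    exact hab (hcon a (h4 ▸ trivial) b (h4 ▸ trivial))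
  · rw [h3, Subgroup.isComplement'_top_left, ← hAP, Subgroup.map_eq_bot_iff_of_injective _ K.subtype_injective] at hcomp
    exact hR0 hcomp

theorem card_ge_six {X : Type u} [Group X] [Finite X] (h : ∃ a b : X, a * b ≠ b * a) : 6 ≤ Nat.card X := by
  by_contra hcon
  push Not at hcon
  obtain ⟨a, b, hab⟩ := h
  apply hab
  have hpos : 0 < Nat.card X := Nat.card_pos
  have h5 : Nat.card X = 1 ∨ Nat.card X = 2 ∨ Nat.card X = 3 ∨ Nat.card X = 4 ∨ Nat.card X = 5 := by omega
  rcases h5 with h | h | h | h | h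
  · have := (Nat.card_eq_one_iff_unique.1 h).1
    exact Subsingleton.elim _ _
  · have := Fact.mk Nat.prime_two
    have := isCyclic_of_prime_card h
    exact IsCyclic.commGroup.mul_comm a b
  · have := Fact.mk Nat.prime_three
    have := isCyclic_of_prime_card h
    exact IsCyclic.commGroup.mul_comm a b
  · have := Fact.mk Nat.prime_two
    have h4 := IsPGroup.isMulCommutative_of_card_eq_prime_sq (p := 2) (G := X) (by rw [h]; rfl)
    exact mul_comm' a b
  · have := Fact.mk Nat.prime_five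
    have := isCyclic_of_prime_card h
    exact IsCyclic.commGroup.mul_comm a b

theorem locK_card {T : Type u} [Group T] [Finite T] (hs : IsSimpleGroup T) (hna : ∃ a b : T, a * b ≠ b * a)
    {K : Subgroup T} (hK : K ∈ Cfsg.Agent.H273.EPU.LocK T) : 6 ≤ Nat.card K := by
  obtain ⟨a, ha, b, hb, hab⟩ := locK_nonab hs hna hK
  exact card_ge_six ⟨⟨a, ha⟩, ⟨b, hb⟩, fun h => hab (congrArg Subtype.val h)⟩

variable {G : Type u} [Group G] {H N : Subgroup G} {T : Type} [Group T] {k : ℕ} {e : N ≃* (Fin k → T)}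

theorem card_N [Finite T] (e : N ≃* (Fin k → T)) : Nat.card N = Nat.card T ^ k := by
  rw [Nat.card_congr e.toEquiv, Nat.card_fun, Nat.card_eq_fintype_card (α := Fin k), Fintype.card_fin]

/-- `|H| |M ∩ N| = |M| |N|` -/
theorem EPS.card_mul [Finite G] (h : EPS H N e) {x : G} (hx : x ∉ H) :
    Nat.card H * Nat.card (H ⊓ cj x H ⊓ N : Subgroup G) = Nat.card (H ⊓ cj x H : Subgroup G) * Nat.card N := by
  set M := H ⊓ cj x H with hM
  have hn : (N.subgroupOf H).Normal := by
    constructor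
    rintro ⟨n, hnH⟩ hn ⟨g, hg⟩
    exact h.nrm g hg n hn
  have h1 : M.subgroupOf H ⊔ N.subgroupOf H = ⊤ := by
    rw [eq_top_iff]
    rintro ⟨g, hg⟩ _
    obtain ⟨n, hn, m, hm, hgm⟩ := h.ep.fac h.le h.nrm h.ne hx hg
    have h2 : (⟨g, hg⟩ : H) = ⟨n, h.le hn⟩ * ⟨m, (mem_inf.1 hm).1⟩ := Subtype.ext hgm
    rw [h2]
    exact Subgroup.mul_mem _ (Subgroup.mem_sup_right hn) (Subgroup.mem_sup_left hm)
  have h2 := Subgroup.relIndex_sup_right (M.subgroupOf H) (N.subgroupOf H)
  rw [h1, Subgroup.relIndex_top_right] at h2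
  have h3 := Subgroup.card_mul_index (N.subgroupOf H)
  rw [h2] at h3
  have h4 := Subgroup.card_mul_index ((N.subgroupOf H).subgroupOf (M.subgroupOf H))
  have h5 : Nat.card (N.subgroupOf H) = Nat.card N := Nat.card_congr (Subgroup.subgroupOfEquivOfLe h.le).toEquiv
  have h6 : Nat.card (M.subgroupOf H) = Nat.card M := Nat.card_congr (Subgroup.subgroupOfEquivOfLe inf_le_left).toEquiv
  have h7 : Nat.card ((N.subgroupOf H).subgroupOf (M.subgroupOf H)) = Nat.card (M ⊓ N : Subgroup G) := by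
    rw [← Subgroup.inf_subgroupOf_right (N.subgroupOf H) (M.subgroupOf H), Nat.card_congr (Subgroup.subgroupOfEquivOfLe inf_le_right).toEquiv]
    have h8 : N.subgroupOf H ⊓ M.subgroupOf H = (M ⊓ N).subgroupOf H := by
      rw [inf_comm]; rfl
    rw [h8, Nat.card_congr (Subgroup.subgroupOfEquivOfLe (inf_le_left.trans inf_le_left)).toEquiv]
  rw [h5] at h3
  rw [h6, h7] at h4
  change Nat.card (M ⊓ N : Subgroup G) * (N.subgroupOf H).relIndex (M.subgroupOf H) = _ at h4
  rw [← h3, ← h4]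
  ring

theorem card_Dt {x : G} (h : EPS H N e) : Nat.card (H ⊓ cj x H ⊓ N : Subgroup G) = Nat.card (Dt e H x) := by
  have h1 : (Dt e H x).map (N.subtype.comp e.symm.toMonoidHom) = H ⊓ cj x H ⊓ N := by
    ext g
    constructor
    · rintro ⟨f, hf, rfl⟩
      exact ⟨⟨h.le (e.symm f).2, hf⟩, (e.symm f).2⟩
    · rintro ⟨⟨_, hg⟩, hgN⟩
      refine ⟨e ⟨g, hgN⟩, (apply_mem_Dt (n := ⟨g, hgN⟩)).mpr hg, ?_⟩
      show ((e.symm (e ⟨g, hgN⟩) : N) : G) = g
      rw [e.symm_apply_apply]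
  have h2 : Function.Injective (N.subtype.comp e.symm.toMonoidHom) :=
    N.subtype_injective.comp e.symm.injective
  rw [← h1]
  exact (Nat.card_congr ((Dt e H x).equivMapOfInjective _ h2).toEquiv).symm

/-- type (iii): `|H| ≤ |T|^(k-1) |M|` -/
theorem EPS.iii_card [Finite G] (h : EPS H N e) {x : G} (hx : x ∉ H) (h0 : ∀ i, Kt e H x i = ⊥)
    (hD : Dt e H x ≠ ⊥) : Nat.card H ≤ Nat.card T ^ (k - 1) * Nat.card (H ⊓ cj x H : Subgroup G) := by
  have hfin : Finite T := Finite.of_injective _ (inj_injective e ⟨0, h.pos⟩)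
  have h1 := EPS.card_mul h hx
  rw [card_N e, card_Dt h] at h1
  have h2 : Nat.card T ≤ Nat.card (Dt e H x) := by
    have hS : Sub.Sd (Dt e H x) := (EPS.Dt_mem_Dg h hx h0 hD).1
    apply Nat.card_le_card_of_surjective (fun d : Dt e H x => (d : Fin k → T) ⟨0, h.pos⟩)
    intro t
    obtain ⟨d, hd, hdt⟩ := hS ⟨0, h.pos⟩ t
    exact ⟨⟨d, hd⟩, hdt⟩
  have h3 : Nat.card T ^ k = Nat.card T ^ (k - 1) * Nat.card T := by
    rw [← pow_succ, Nat.sub_add_cancel h.pos]
  have hpos : 0 < Nat.card T := Nat.card_pos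
  apply Nat.le_of_mul_le_mul_right _ hpos
  calc Nat.card H * Nat.card T ≤ Nat.card H * Nat.card (Dt e H x) := Nat.mul_le_mul_left _ h2
    _ = _ := h1
    _ = _ := by rw [h3]; ring

/-- type (ii): `6^k |H| ≤ |T|^k |M|` -/
theorem EPS.ii_card [Finite G] (h : EPS H N e) {x : G} (hx : x ∉ H) {i : Fin k} (hi : Kt e H x i ≠ ⊥) :
    6 ^ k * Nat.card H ≤ Nat.card T ^ k * Nat.card (H ⊓ cj x H : Subgroup G) := by
  have hfin : Finite T := Finite.of_injective _ (inj_injective e i)
  have h1 := EPS.card_mul h hx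
  rw [card_N e, card_Dt h] at h1
  have h2 : 6 ^ k ≤ Nat.card (Dt e H x) := by
    have h3 : ∀ j, 6 ≤ Nat.card (Kt e H x j) := fun j =>
      locK_card h.simple h.nab (EPS.mem_LocK h hx (EPS.Kt_ne h hx hi j))
    have h4 : 6 ^ k ≤ Nat.card (∀ j, Kt e H x j) := by
      rw [Nat.card_pi]
      calc 6 ^ k = ∏ _j : Fin k, 6 := by simp
        _ ≤ _ := Finset.prod_le_prod' fun j _ => h3 j
    refine h4.trans (Nat.card_le_card_of_injective (fun f => ⟨fun j => (f j : T), ?_⟩) ?_)
    · have h5 : (fun j => (f j : T)) ∈ (Dt e H x) := by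
        refine Subgroup.pi_mem_of_mulSingle_mem _ fun j => ?_
        exact (mulSingle_mem_Dt (e := e) (x := x) (i := j)).mpr (f j).2
      exact h5
    · intro f g hfg
      have h5 := congrArg Subtype.val hfg
      funext j
      exact Subtype.ext (congrFun h5 j)
  calc 6 ^ k * Nat.card H ≤ Nat.card (Dt e H x) * Nat.card H := Nat.mul_le_mul_right _ h2
    _ = _ := by rw [mul_comm]; exact h1
    _ = _ := mul_comm _ _

/-- the restriction of `h ∈ H` normalising `T_i` to `T_i` -/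
theorem card_ker_dvd [Finite G] (h : EPS H N e) :
    Nat.card (perm h).ker ∣ Nat.card (MulAut T) ^ k := by
  have hfin : Finite T := Finite.of_injective _ (inj_injective e ⟨0, h.pos⟩)
  have hle : ∀ i, (perm h).ker.map H.subtype ≤ Subgroup.normalizer (fc e i : Set G) := by
    rintro i _ ⟨p, hp, rfl⟩
    have hpi : cj (p : G) (fc e i) = fc e i := by
      have := perm_spec h p i
      rw [MonoidHom.mem_ker.mp hp] at this
      exact this
    rw [Subgroup.mem_normalizer_iff]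
    intro n
    constructor
    · intro hnn
      have := conj_mem_cj (x := (p : G)) hnn
      rw [hpi] at this
      exact this
    · intro hnn
      rw [← hpi] at hnn
      obtain ⟨m, hm, hmn⟩ := hnn
      have h1 : (p : G) * m * (p : G)⁻¹ = (p : G) * n * (p : G)⁻¹ := hmn
      exact (mul_left_cancel (mul_right_cancel h1)) ▸ hm
  let φ : ∀ i, (perm h).ker →* MulAut (fc e i) := fun i =>
    ((fc e i).normalizerMonoidHom).comp ((inclusion (hle i)).comp
      (((perm h).ker.equivMapOfInjective H.subtype H.subtype_injective).toMonoidHom))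
  have hφ : ∀ i (m : (perm h).ker) (n : fc e i), ((φ i m n : fc e i) : G) = ((m : H) : G) * n * ((m : H) : G)⁻¹ :=
    fun i m n => rfl
  let Φ : (perm h).ker →* (∀ i, MulAut (fc e i)) := MonoidHom.pi φ
  have hΦ : Function.Injective Φ := by
    rw [injective_iff_map_eq_one]
    intro m hm
    have h1 : ((m : H) : G) ∈ Subgroup.centralizer (N : Set G) := by
      have h2 : N ≤ Subgroup.centralizer ({((m : H) : G)} : Set G) := by
        refine (N_le_iSup e).trans (iSup_le fun i => ?_)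
        intro a ha
        rw [Subgroup.mem_centralizer_singleton_iff]
        have h3 := hφ i m ⟨a, ha⟩
        have h4 : φ i m = 1 := congrFun hm i
        rw [h4] at h3
        have h5 : a = ((m : H) : G) * a * ((m : H) : G)⁻¹ := h3
        have h6 : a * ((m : H) : G) = ((m : H) : G) * a := by
          nth_rewrite 1 [h5]
          group
        exact h6
      intro n hn
      exact Subgroup.mem_centralizer_singleton_iff.mp (h2 hn)
    rw [h.cent, Subgroup.mem_bot] at h1
    exact Subtype.ext (Subtype.ext h1)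
  have h1 := Subgroup.card_dvd_of_injective Φ hΦ
  have h2 : Nat.card (∀ i, MulAut (fc e i)) = Nat.card (MulAut T) ^ k := by
    rw [Nat.card_pi]
    have h3 : ∀ i, Nat.card (MulAut (fc e i)) = Nat.card (MulAut T) := fun i =>
      Nat.card_congr (MulAut.congr (MonoidHom.ofInjective (inj_injective e i)).symm).toEquiv
    simp only [h3]
    simp
  rwa [h2] at h1

/-- `|H|` divides `|Aut T|^k k!` -/
theorem EPS.card_H_dvd [Finite G] (h : EPS H N e) : Nat.card H ∣ Nat.card (MulAut T) ^ k * k.factorial := by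
  have h1 := Subgroup.card_mul_index (perm h).ker
  rw [Subgroup.index_ker] at h1
  have h2 : Nat.card (perm h).range ∣ k.factorial := by
    have h3 := Subgroup.card_subgroup_dvd_card (perm h).range
    rwa [Nat.card_perm, Nat.card_eq_fintype_card (α := Fin k), Fintype.card_fin] at h3
  rw [← h1]
  exact Nat.mul_dvd_mul (card_ker_dvd h) h2

theorem EPS.card_H_le [Finite G] (h : EPS H N e) : Nat.card H ≤ Nat.card (MulAut T) ^ k * k.factorial := by
  have hfin : Finite T := Finite.of_injective _ (inj_injective e ⟨0, h.pos⟩)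
  exact Nat.le_of_dvd (Nat.mul_pos (pow_pos Nat.card_pos k) k.factorial_pos) (EPS.card_H_dvd h)

end Cfsg.Agent.H758.EPX
end

-- part: H758/EPX/TK
section
set_option linter.all false
open scoped Cfsg.Agent.FastGrp

/-!
# S5745, `k ≥ 2`: the bound for `|G : H|`
-/

set_option autoImplicit false
set_option linter.unusedSectionVars false

namespace Cfsg.Agent.H758.EPX

open Subgroup Cfsg.Agent.H284 Cfsg.Agent.H209.EPX MulAction

universe u

theorem ncard_Dg_le_pow {T : Type} [Group T] [Finite T] {k : ℕ} (hk : 0 < k) (hs : IsSimpleGroup T)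
    (hna : ∃ a b : T, a * b ≠ b * a) : (Sub.Dg T k).ncard ≤ (k * Nat.card (MulAut T)) ^ (k - 1) := by
  refine (Sub.ncard_Dg_le hs hna).trans ((Sub.sum_ok k _ hk).trans ?_)
  have ha : 0 < Nat.card (MulAut T) := Nat.card_pos
  generalize Nat.card (MulAut T) = a at ha ⊢
  by_cases hk1 : k = 1
  · subst hk1
    simp
  have hB : 1 + k / 2 * a ≤ k * a := by
    have h1 : 1 ≤ k - k / 2 := by omega
    have h2 : k * a = (k - k / 2) * a + k / 2 * a := by
      rw [← Nat.add_mul]
      congr 1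
      omega
    rw [h2]
    have h3 : 1 ≤ (k - k / 2) * a := Nat.one_le_iff_ne_zero.2 (Nat.mul_ne_zero (by omega) ha.ne')
    omega
  refine le_trans ?_ (Nat.pow_le_pow_left hB (k - 1))
  rw [Commute.add_pow (Commute.all _ _)]
  calc ∑ c ∈ Finset.Icc 1 (k / 2), (k - 1).choose (c - 1) * (c * a) ^ (k - c)
      ≤ ∑ c ∈ Finset.Icc 1 (k / 2), (k - 1).choose (c - 1) * (k / 2 * a) ^ (k - c) := by
        refine Finset.sum_le_sum fun c hc => ?_
        rw [Finset.mem_Icc] at hc
        exact Nat.mul_le_mul_left _ (Nat.pow_le_pow_left (Nat.mul_le_mul_right _ hc.2) _)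
    _ = ∑ m ∈ (Finset.Icc 1 (k / 2)).image (fun c => c - 1), (k - 1).choose m * (k / 2 * a) ^ (k - 1 - m) := by
        rw [Finset.sum_image]
        · refine Finset.sum_congr rfl fun c hc => ?_
          rw [Finset.mem_Icc] at hc
          congr 2
          omega
        · intro c hc d hd hcd
          simp only [Finset.coe_Icc, Set.mem_Icc] at hc hd
          simp only at hcd
          omega
    _ ≤ ∑ m ∈ Finset.range (k - 1 + 1), (k - 1).choose m * (k / 2 * a) ^ (k - 1 - m) := by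
        apply Finset.sum_le_sum_of_subset
        intro m hm
        rw [Finset.mem_image] at hm
        obtain ⟨c, hc, rfl⟩ := hm
        rw [Finset.mem_Icc] at hc
        rw [Finset.mem_range]
        omega
    _ = _ := by
        refine Finset.sum_congr rfl fun m _ => ?_
        rw [one_pow, one_mul, Nat.cast_id, mul_comm]

variable {G : Type u} [Group G] {H N : Subgroup G} {T : Type} [Group T] {k : ℕ} {e : N ≃* (Fin k → T)}

theorem EPS.M_ne_bot (h : EPS H N e) {x : G} (hx : x ∉ H) : H ⊓ cj x H ≠ ⊥ := by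
  intro h0
  have h1 : ∀ g ∈ H, g ≠ 1 → zpowers g = H := by
    intro g hg hg1
    rcases h.ep.two x hx (zpowers g) (by rw [h0]; exact bot_le) (Subgroup.zpowers_le.2 hg) with h2 | h2
    · rw [h0, Subgroup.zpowers_eq_bot] at h2
      exact absurd h2 hg1
    · exact h2
  obtain ⟨a, b, hab⟩ := h.nab
  have ha1 : inj e ⟨0, h.pos⟩ a ≠ 1 := by
    intro h2
    have h3 : a = 1 := inj_injective e ⟨0, h.pos⟩ (h2.trans (map_one _).symm)
    apply hab
    rw [h3, one_mul, mul_one]
  have h2 := h1 _ (h.le (inj_mem_N e ⟨0, h.pos⟩ a)) ha1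
  have h3 : inj e ⟨0, h.pos⟩ b ∈ zpowers (inj e ⟨0, h.pos⟩ a) := by
    rw [h2]
    exact h.le (inj_mem_N e ⟨0, h.pos⟩ b)
  obtain ⟨n, hn⟩ := Subgroup.mem_zpowers_iff.1 h3
  apply hab
  apply inj_injective e ⟨0, h.pos⟩
  rw [map_mul, map_mul, ← hn]
  exact (Commute.refl _).zpow_right n

/-- **the line bound** -/
theorem tk_gen [Finite G] (h : EP H) {R D : ℕ} (hne : ∀ x, x ∉ H → H ⊓ cj x H ≠ ⊥)
    (hR : {M : Subgroup G | ∃ x, x ∉ H ∧ M = H ⊓ cj x H}.ncard ≤ R)
    (hD : ∀ x, x ∉ H → Nat.card H ≤ D * Nat.card (H ⊓ cj x H : Subgroup G)) :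
    Nat.card G ≤ (1 + R * (2 * D)) * Nat.card H := by
  have hf := h.faithful
  have hE := h.toEPA
  have hst : ∀ x : G, stabilizer G (x : G ⧸ H) = cj x H := by
    intro x
    have h1 : (x : G ⧸ H) = x • ((1 : G) : G ⧸ H) := by
      rw [MulAction.Quotient.smul_coe, smul_eq_mul, mul_one]
    rw [h1, stab_smul, MulAction.stabilizer_quotient]
  have hD' : ∀ p c : G ⧸ H, c ≠ p → Nat.card (stabilizer G p) ≤ D * Nat.card (stabilizer G p ⊓ stabilizer G c : Subgroup G) := by
    intro p c hcp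
    induction p using QuotientGroup.induction_on with
    | H x =>
      induction c using QuotientGroup.induction_on with
      | H y =>
        rw [hst, hst]
        have hy : x⁻¹ * y ∉ H := by
          intro e
          apply hcp
          exact (QuotientGroup.eq.2 e).symm
        have e1 : cj x (H ⊓ cj (x⁻¹ * y) H) = cj x H ⊓ cj y H := by
          rw [cj_inf, ← cj_mul, mul_inv_cancel_left]
        rw [← e1, card_cj, card_cj]
        exact hD _ hy
  have hxH : ∀ x : G, (x : G ⧸ H) ≠ ((1 : G) : G ⧸ H) ↔ x ∉ H := by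
    intro x
    rw [Ne, eq_comm, QuotientGroup.eq, inv_one, one_mul]
  have h1 := Cfsg.Agent.H173.EP.card_le_line hE hD' ((1 : G) : G ⧸ H) (by
    intro b hb
    induction b using QuotientGroup.induction_on with
    | H x =>
      rw [hst, hst, cj_one]
      exact hne x ((hxH x).1 hb))
  have h2 : EPA.lines G ((1 : G) : G ⧸ H) ⊆ {M : Subgroup G | ∃ x, x ∉ H ∧ M = H ⊓ cj x H} := by
    rintro _ ⟨b, hb, rfl⟩
    induction b using QuotientGroup.induction_on with
    | H x =>
      refine ⟨x, (hxH x).1 hb, ?_⟩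
      rw [hst, hst, cj_one]
  have h3 : (EPA.lines G ((1 : G) : G ⧸ H)).ncard ≤ R := (Set.ncard_le_ncard h2 (Set.toFinite _)).trans hR
  have h4 := Subgroup.card_mul_index H
  rw [← h4, mul_comm, Subgroup.index]
  exact Nat.mul_le_mul_right _ (h1.trans (Nat.add_le_add_left (Nat.mul_le_mul_right _ h3) 1))

/-- **TK**: no two-point stabiliser meets `N` trivially -/
theorem EPS.tk [Finite G] (h : EPS H N e) (hreg : ∀ x, x ∉ H → Dt e H x ≠ ⊥) {L D : ℕ}
    (hL : (Cfsg.Agent.H273.EPU.LocK T \ {⊤}).ncard ≤ L) (hD1 : Nat.card T ^ k ≤ 6 ^ k * D)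
    (hD2 : Nat.card T ^ (k - 1) ≤ D) :
    Nat.card G ≤ (1 + (L ^ k + (k * Nat.card (MulAut T)) ^ (k - 1)) * (2 * D)) * Nat.card H := by
  have hfin : Finite T := Finite.of_injective _ (inj_injective e ⟨0, h.pos⟩)
  refine tk_gen h.ep (fun x hx => EPS.M_ne_bot h hx) ?_ ?_
  · refine le_trans ((Set.ncard_le_ncard ?_ (Set.toFinite _)).trans ((Set.ncard_union_le _ _).trans
      (add_le_add (EPS.ncard_le h) (EPS.ncard_diag_le h))))
      (add_le_add (Nat.pow_le_pow_left hL k) (ncard_Dg_le_pow h.pos h.simple h.nab))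
    rintro M ⟨x, hx, hM⟩
    by_cases h0 : ∃ i, Kt e H x i ≠ ⊥
    · exact Or.inl ⟨x, hx, hM, h0⟩
    · push Not at h0
      exact Or.inr ⟨x, hx, hM, h0, hreg x hx⟩
  · intro x hx
    by_cases h0 : ∃ i, Kt e H x i ≠ ⊥
    · obtain ⟨i, hi⟩ := h0
      have h1 := EPS.ii_card h hx hi
      have h2 : 0 < 6 ^ k := by positivity
      apply Nat.le_of_mul_le_mul_left _ h2
      calc 6 ^ k * Nat.card H ≤ _ := h1
        _ ≤ 6 ^ k * D * Nat.card (H ⊓ cj x H : Subgroup G) := Nat.mul_le_mul_right _ hD1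
        _ = _ := by ring
    · push Not at h0
      exact (EPS.iii_card h hx h0 (hreg x hx)).trans (Nat.mul_le_mul_right _ hD2)

/-- **TK** for `k ≤ 5` -/
theorem EPS.tk_five [Finite G] (h : EPS H N e) (hsch : Cfsg.Agent.Schreier.Basic.Sch T) (hk : k ≤ 5) {L D : ℕ}
    (hL : (Cfsg.Agent.H273.EPU.LocK T \ {⊤}).ncard ≤ L) (hD1 : Nat.card T ^ k ≤ 6 ^ k * D)
    (hD2 : Nat.card T ^ (k - 1) ≤ D) :
    Nat.card G ≤ (1 + (L ^ k + (k * Nat.card (MulAut T)) ^ (k - 1)) * (2 * D)) * Nat.card H :=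
  EPS.tk h (fun _ hx => EPS.Dt_ne_bot h hsch hk hx) hL hD1 hD2

/-- **TK** for `k = 2` -/
theorem EPS.tk_two {e : N ≃* (Fin 2 → T)} [Finite G] (h : EPS H N e) (hsch : Cfsg.Agent.Schreier.Basic.Sch T) {L D : ℕ}
    (hL : (Cfsg.Agent.H273.EPU.LocK T \ {⊤}).ncard ≤ L) (hD1 : Nat.card T ^ 2 ≤ 36 * D) (hD2 : Nat.card T ≤ D) :
    Nat.card G ≤ (1 + (L ^ 2 + Nat.card (MulAut T)) * (2 * D)) * Nat.card H := by
  have hfin : Finite T := Finite.of_injective _ (inj_injective e ⟨0, h.pos⟩)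
  refine tk_gen h.ep (fun x hx => EPS.M_ne_bot h hx) ?_ ?_
  · exact (EPS.ncard_total h hsch (by norm_num)).trans
      (add_le_add (Nat.pow_le_pow_left hL 2) (Sub.ncard_Dg_two h.simple h.nab))
  · intro x hx
    by_cases h0 : ∃ i, Kt e H x i ≠ ⊥
    · obtain ⟨i, hi⟩ := h0
      have h1 := EPS.ii_card h hx hi
      have h2 : 0 < 6 ^ 2 := by positivity
      apply Nat.le_of_mul_le_mul_left _ h2
      calc 6 ^ 2 * Nat.card H ≤ _ := h1
        _ ≤ 36 * D * Nat.card (H ⊓ cj x H : Subgroup G) := Nat.mul_le_mul_right _ hD1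
        _ = _ := by ring
    · push Not at h0
      refine (EPS.iii_card h hx h0 (EPS.Dt_ne_bot h hsch (by norm_num) hx)).trans (Nat.mul_le_mul_right _ ?_)
      simpa using hD2

end Cfsg.Agent.H758.EPX
end

-- part: H746/EK/Num
section
set_option linter.all false
open scoped Cfsg.Agent.FastGrp

/-!
# S5745, section 4 (`CrossK`, `k ≥ 2`): the numbers (helper746)

* `Fam`, `nm`, `dn`, `dm` : the families, `dn f q * |G| = nm f q`, the dimension of the adjoint module;
* `tL X l e` : the order of a simple group of shape `X` over the field of `l ^ e` elements;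
* `Lc t` : the bound for the number of `LocK` subgroups of a simple group of order `t`;
* `Dk t k`, `Bk t a k` : the bound (TK) for `|G|`, `|T| = t`, `|Aut T| ≤ a`, socle `T ^ k`.
-/

set_option autoImplicit false

namespace Cfsg.Agent.H746.EK

open Cfsg.Agent.H902 Cfsg.Agent.H290.ElTab Cfsg.Agent.H59.EP

/-- the families -/
inductive Fam
  | e8 | e7 | e6 | te6 | f4 | td4 | g2
  deriving DecidableEq

/-- numerator of the order -/
def nm : Fam → ℕ → ℕ
  | .e8, q => q ^ 120 * (q ^ 2 - 1) * (q ^ 8 - 1) * (q ^ 12 - 1) * (q ^ 14 - 1) *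
      (q ^ 18 - 1) * (q ^ 20 - 1) * (q ^ 24 - 1) * (q ^ 30 - 1)
  | .e7, q => q ^ 63 * (q ^ 2 - 1) * (q ^ 6 - 1) * (q ^ 8 - 1) *
      (q ^ 10 - 1) * (q ^ 12 - 1) * (q ^ 14 - 1) * (q ^ 18 - 1)
  | .e6, q => q ^ 36 * (q ^ 2 - 1) * (q ^ 5 - 1) * (q ^ 6 - 1) * (q ^ 8 - 1) * (q ^ 9 - 1) * (q ^ 12 - 1)
  | .te6, q => q ^ 36 * (q ^ 2 - 1) * (q ^ 5 + 1) * (q ^ 6 - 1) * (q ^ 8 - 1) * (q ^ 9 + 1) * (q ^ 12 - 1)
  | .f4, q => q ^ 24 * (q ^ 2 - 1) * (q ^ 6 - 1) * (q ^ 8 - 1) * (q ^ 12 - 1)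
  | .td4, q => q ^ 12 * (q ^ 2 - 1) * (q ^ 6 - 1) * (q ^ 8 + q ^ 4 + 1)
  | .g2, q => q ^ 6 * (q ^ 2 - 1) * (q ^ 6 - 1)

/-- denominator -/
def dn : Fam → ℕ → ℕ
  | .e7, q => Nat.gcd 2 (q - 1)
  | .e6, q => Nat.gcd 3 (q - 1)
  | .te6, q => Nat.gcd 3 (q + 1)
  | _, _ => 1

theorem nm_mono (f : Fam) : Monotone (nm f) := by
  intro a b h
  cases f <;> simp only [nm] <;> gcongr

theorem dn_le (f : Fam) (q : ℕ) : dn f q ≤ 3 := by
  cases f <;> simp only [dn]
  · omega
  · exact (Nat.gcd_le_left _ (by norm_num)).trans (by norm_num)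
  · exact Nat.gcd_le_left _ (by norm_num)
  · exact Nat.gcd_le_left _ (by norm_num)
  · omega
  · omega
  · omega

/-- the number of nontrivial elementary abelian subgroups, for lists -/
def galC (s a : ℕ) : ℕ :=
  ((List.range a).map fun j => ((List.range (j + 1)).map fun i => s ^ a - s ^ i).prod /
    ((List.range (j + 1)).map fun i => s ^ (j + 1) - s ^ i).prod).sum

theorem galC_eq (s a : ℕ) : galC s a = gal s a := by
  have h1 : galC s a = ∑ j ∈ Finset.range a, (∏ i ∈ Finset.range (j + 1), (s ^ a - s ^ i)) /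
      (∏ i ∈ Finset.range (j + 1), (s ^ (j + 1) - s ^ i)) := rfl
  rw [h1, gal, Finset.range_eq_Ico, Finset.sum_Ico_add' (fun j => (∏ i ∈ Finset.range j, (s ^ a - s ^ i)) /
      (∏ i ∈ Finset.range j, (s ^ j - s ^ i))) 0 a 1]
  rfl

/-- the multiplicity of `p` in `t` -/
def vv (p : ℕ) : ℕ → ℕ → ℕ
  | 0, _ => 0
  | n + 1, t => if t % p = 0 then vv p n (t / p) + 1 else 0

/-- the factorisation -/
def fac (t : ℕ) : List (ℕ × ℕ) := (prs.filter fun p => t % p == 0).map fun p => (p, vv p 200 t)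

/-- `fac t` is correct -/
def facOk (t : ℕ) : Bool := Nat.beq ((fac t).map fun x => x.1 ^ x.2).prod t && Nat.blt 0 t

theorem prs_nodup : prs.Nodup := by (refine of_decide_eq_true ?_; (try (rewrite [Cfsg.Agent.NodupNat.dec_eq, Cfsg.Agent.LsF.decide_eq])); decide +kernel)

theorem prs_chk : (prs.all fun r => Nat.ble 2 r && (List.range r).all fun m => Nat.ble m 1 || r % m != 0) = true := by
  ((try (rewrite [Cfsg.Agent.LsF.nmod_pat, Cfsg.Agent.LsF.nbne_pat, Cfsg.Agent.LsF.and_eq, Cfsg.Agent.LsF.or_eq, Cfsg.Agent.LsF.all_eq, Cfsg.Agent.LsF.range_eq])); decide +kernel)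

theorem prs_prime : ∀ r ∈ prs, r.Prime := by
  intro r hr
  have h := List.all_eq_true.1 prs_chk r hr
  simp only [Bool.and_eq_true, List.all_eq_true, Nat.ble_eq, Bool.or_eq_true, bne_iff_ne, ne_eq, List.mem_range] at h
  rw [Nat.prime_def_lt']
  refine ⟨h.1, fun m h2 hm hd => ?_⟩
  rcases h.2 m hm with h3 | h3
  · omega
  · exact h3 (Nat.mod_eq_zero_of_dvd hd)

theorem vv_pos {p t : ℕ} (h : t % p = 0) (n : ℕ) : 0 < vv p (n + 1) t := by
  rw [vv, if_pos h]
  omega

theorem fac_prime {t : ℕ} {x : ℕ × ℕ} (hx : x ∈ fac t) : x.1.Prime ∧ 0 < x.2 := by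
  rw [fac, List.mem_map] at hx
  obtain ⟨p, hp, rfl⟩ := hx
  rw [List.mem_filter] at hp
  refine ⟨prs_prime p hp.1, vv_pos ?_ 199⟩
  simpa using hp.2

theorem fac_nodup (t : ℕ) : ((fac t).map Prod.fst).Nodup := by
  rw [fac, List.map_map]
  have : (Prod.fst ∘ fun p : ℕ => (p, vv p 200 t)) = id := rfl
  rw [this, List.map_id]
  exact prs_nodup.filter _

theorem facOk_spec {t : ℕ} (h : facOk t = true) : ((fac t).map fun x => x.1 ^ x.2).prod = t ∧ 0 < t := by
  rw [facOk, Bool.and_eq_true] at h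
  refine ⟨Nat.eq_of_beq_eq_true h.1, ?_⟩
  have := h.2
  unfold Nat.blt at this
  exact Nat.le_of_ble_eq_true this

/-- `∑ gal` -/
def gs (t : ℕ) : ℕ := ((fac t).map fun x => galC x.1 x.2).sum

theorem gs_eq {t : ℕ} (h : facOk t = true) : galSum t = gs t := by
  have h1 := (galSum_list (fac t) (fun x hx => fac_prime hx) (fac_nodup t)).1
  rw [(facOk_spec h).1] at h1
  rw [h1, gs]
  simp only [galC_eq]

/-- the bound for the number of `LocK` subgroups -/
def Lc (t : ℕ) : ℕ := gs t * (t / 6) + t ^ 2 / 60 + t ^ 3 / 12744000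

/-- the bound for `|H : M|` -/
def Dk (t k : ℕ) : ℕ := if k ≤ 5 then max (t ^ k / 6 ^ k + 1) (t ^ (k - 1)) else t ^ k

/-- the bound for the number of the `M` with `M ∩ T_i = 1` -/
def Ik (t a k : ℕ) : ℕ := (k * a) ^ (k - 1) + (if k ≤ 5 then 0 else t ^ (k - 1) * (a * (4 * k)))

/-- **the bound for `|G|`** (TK) -/
def Bk (t a k : ℕ) : ℕ := (1 + (Lc t ^ k + Ik t a k) * (2 * Dk t k)) * (a ^ k * k.factorial)

end Cfsg.Agent.H746.EK

private theorem dce_fa3c808f340f : _root_.True := by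
  try have : _root_.True := by simp only [_root_.Cfsg.Agent.H746.EK.nm.eq_6]
  try have : _root_.True := by simp only [_root_.Cfsg.Agent.H902.Art.Ok.eq_3]
  try have : _root_.True := by simp only [_root_.Cfsg.Agent.H746.EK.dn.eq_4]
  try have : _root_.True := by simp only [_root_.Cfsg.Agent.H902.Art.Ok.eq_11]
  try have : _root_.True := by simp only [_root_.Cfsg.Agent.H902.Art.Ok.eq_14]
  try have : _root_.True := by simp only [_root_.Cfsg.Agent.H746.EK.nm.eq_2]
  try have : _root_.True := by simp only [_root_.Cfsg.Agent.H746.EK.vv.eq_def]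
  try have : _root_.True := by simp only [_root_.Cfsg.Agent.H746.EK.gs.eq_1]
  try have : _root_.True := by simp only [_root_.Cfsg.Agent.H902.Art.Ok.eq_1]
  try have : _root_.True := by simp only [_root_.Cfsg.Agent.H902.Art.Ok.eq_15]
  try have : _root_.True := by simp only [_root_.Cfsg.Agent.H746.EK.nm.eq_4]
  try have : _root_.True := by simp only [_root_.Cfsg.Agent.H902.Art.Ok.eq_13]
  try have : _root_.True := by simp only [_root_.Cfsg.Agent.H59.EP.gal.eq_1]
  try have : _root_.True := by simp only [_root_.Cfsg.Agent.H746.EK.nm.eq_7]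
  try have : _root_.True := by simp only [_root_.Cfsg.Agent.H746.EK.vv.eq_2]
  try have : _root_.True := by simp only [_root_.Cfsg.Agent.H746.EK.dn._sparseCasesOn_1.else_eq]
  try have : _root_.True := by simp only [_root_.Cfsg.Agent.H746.EK.nm.eq_5]
  try have : _root_.True := by simp only [_root_.Cfsg.Agent.H746.EK.vv.eq_1]
  try have : _root_.True := by simp only [_root_.Cfsg.Agent.H902.Art.Ok.eq_6]
  try have : _root_.True := by simp only [_root_.Cfsg.Agent.H746.EK.nm.eq_3]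
  try have : _root_.True := by simp only [_root_.Cfsg.Agent.H902.Art.Ok.eq_12]
  try have : _root_.True := by simp only [_root_.Cfsg.Agent.H746.EK.fac.eq_1]
  try have : _root_.True := by simp only [_root_.Cfsg.Agent.H902.Art.Ok.eq_2]
  try have : _root_.True := by simp only [_root_.Cfsg.Agent.H746.EK.nm.eq_1]
  try have : _root_.True := by simp only [_root_.Cfsg.Agent.H746.EK.facOk.eq_1]
  try have : _root_.True := by simp only [_root_.Cfsg.Agent.H902.Art.Ok.eq_8]
  try have : _root_.True := by simp only [_root_.Cfsg.Agent.H746.EK.dn.eq_3]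
  try have : _root_.True := by simp only [_root_.Cfsg.Agent.H902.Art.Ok.eq_4]
  try have : _root_.True := by simp only [_root_.Cfsg.Agent.H902.Art.Ok.eq_10]
  try have : _root_.True := by simp only [_root_.Cfsg.Agent.H902.Art.Ok.eq_9]
  try have : _root_.True := by simp only [_root_.Cfsg.Agent.H746.EK.dn.eq_2]
  try have : _root_.True := by simp only [_root_.Cfsg.Agent.H902.Art.Ok.eq_7]
  try have : _root_.True := by simp only [_root_.Cfsg.Agent.H902.Art.Ok.eq_5]
  try have : _root_.True := by simp only [_root_.Cfsg.Agent.H746.EK.dn.eq_1]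
  exact _root_.True.intro
end

-- part: H252/EN/TabK
section
prune_inst 0x30102d047422100000000000a2002020b00000000000000120000400090980008040c8000210040200e210805800402811440000c21000000a003000000600001021400000340e00180000000004080c00000000000000000000000000000000000000000
set_option linter.all false
open scoped Cfsg.Agent.FastGrp

/-!
# S5745, layer ENUM: the tables for the socles `T ^ k`, `k ≥ 2` (helper252)

`Bk t a k` (helper746): the bound for `|G|`. `q` even: all `q = 2 ^ i` below the bound; `q` odd: the `2`-part of `|T| ^ k`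
forces `2 ^ V ∣ q ^ 2 - 1`, so `q = s j ± 1` with `s = 2 ^ (V - 1)`.
-/

set_option autoImplicit false

namespace Cfsg.Agent.H252.EN

open Cfsg.Agent.H902 Cfsg.Agent.H290.ElReg Cfsg.Agent.H290.ElTab Cfsg.Agent.H290.ElCross Cfsg.Agent.H59.EP Finset

/-! ### the `2`-adic bound -/

/-- `v₂(q² - 1)` -/
noncomputable def V2 (q : ℕ) : ℕ := padicValNat 2 (q ^ 2 - 1)

theorem v_two {q : ℕ} (hq : Odd q) (h3 : 3 ≤ q) : V2 q = padicValNat 2 (q + 1) + padicValNat 2 (q - 1) := by
  rw [V2, show q ^ 2 - 1 = (q + 1) * (q - 1) by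
    obtain ⟨t, rfl⟩ := Nat.exists_eq_add_of_le' (show 1 ≤ q by omega)
    rw [Nat.add_sub_cancel]
    have : (t + 1) ^ 2 = (t + 1 + 1) * t + 1 := by ring
    rw [this, Nat.add_sub_cancel], padicValNat.mul (by omega) (by omega)]

theorem v_even {q m : ℕ} (hq : Odd q) (h3 : 3 ≤ q) (hm : m ≠ 0) (he : Even m) :
    padicValNat 2 (q ^ m - 1) + 1 = V2 q + padicValNat 2 m := by
  have h := padicValNat.pow_two_sub_pow (n := m) (x := q) (y := 1) (by omega)
    (by obtain ⟨k, rfl⟩ := hq; exact ⟨k, by omega⟩) (by rw [Nat.two_dvd_ne_zero]; exact Nat.odd_iff.1 hq) hm he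
  rw [one_pow] at h
  rw [h, v_two hq h3]

theorem pow_sub_ne {q m : ℕ} (h3 : 3 ≤ q) (hm : m ≠ 0) : q ^ m - 1 ≠ 0 := by
  have : q ≤ q ^ m := Nat.le_self_pow hm q
  omega

theorem v_odd {q m : ℕ} (hq : Odd q) (h3 : 3 ≤ q) (hm : Odd m) :
    padicValNat 2 (q ^ m - 1) + 1 ≤ V2 q ∧ padicValNat 2 (q ^ m + 1) + 1 ≤ V2 q := by
  have hm0 : m ≠ 0 := by obtain ⟨k, rfl⟩ := hm; omega
  have h1 := v_even (m := m * 2) hq h3 (by omega) ⟨m, by ring⟩
  have h2 : q ^ (m * 2) - 1 = (q ^ m - 1) * (q ^ m + 1) := by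
    have hge : 1 ≤ q ^ m := Nat.one_le_pow _ _ (by omega)
    obtain ⟨t, ht⟩ := Nat.exists_eq_add_of_le' hge
    rw [pow_mul, ht, Nat.add_sub_cancel]
    have : (t + 1) ^ 2 = t * (t + 1 + 1) + 1 := by ring
    rw [this, Nat.add_sub_cancel]
  have h3' := pow_sub_ne h3 hm0
  rw [h2, padicValNat.mul h3' (by omega), padicValNat.mul hm0 (by norm_num),
    padicValNat.eq_zero_of_not_dvd (n := m) (by rw [Nat.two_dvd_ne_zero]; exact Nat.odd_iff.1 hm),
    padicValNat.self (by norm_num)] at h1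
  have h4 : 1 ≤ padicValNat 2 (q ^ m - 1) := by
    apply one_le_padicValNat_of_dvd h3'
    obtain ⟨k, hk⟩ := hq.pow (n := m)
    exact ⟨k, by omega⟩
  have h5 : 1 ≤ padicValNat 2 (q ^ m + 1) := by
    apply one_le_padicValNat_of_dvd (by omega)
    obtain ⟨k, hk⟩ := hq.pow (n := m)
    exact ⟨k + 1, by omega⟩
  omega

theorem V2_ge {q : ℕ} (hq : Odd q) (h3 : 3 ≤ q) : 3 ≤ V2 q := by
  have h1 : 8 ∣ q ^ 2 - 1 := Nat.eight_dvd_sq_sub_one_of_odd hq
  have h2 : 2 ^ 3 ∣ q ^ 2 - 1 := h1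
  exact (padicValNat_dvd_iff_le (pow_sub_ne h3 (by norm_num))).1 h2

/-- the coefficients -/
def cf : Art.Sh → ℕ × ℕ
  | .E8 => (8, 6)
  | .E7 => (7, 3)
  | .E6 => (6, 1)
  | .TE6 => (6, 1)
  | .F4 => (4, 3)
  | _ => (1, 0)

/-- the families with `q` odd -/
def Yo : List Art.Sh := [.E8, .E7, .E6, .TE6, .F4]

theorem val_num {Y : Art.Sh} (hY : Y ∈ Yo) {q : ℕ} (hq : Odd q) (h3 : 3 ≤ q) :
    Art.num Y q ≠ 0 ∧ padicValNat 2 (Art.num Y q) ≤ (cf Y).1 * V2 q + (cf Y).2 := by
  have ne : ∀ m, m ≠ 0 → q ^ m - 1 ≠ 0 := fun m hm => pow_sub_ne h3 hm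
  have ev : ∀ m, m ≠ 0 → Even m → padicValNat 2 (q ^ m - 1) + 1 = V2 q + padicValNat 2 m := fun m hm he =>
    v_even hq h3 hm he
  have e2 := ev 2 (by norm_num) (by decide)
  have e6 := ev 6 (by norm_num) (by decide)
  have e8 := ev 8 (by norm_num) (by decide)
  have e10 := ev 10 (by norm_num) (by decide)
  have e12 := ev 12 (by norm_num) (by decide)
  have e14 := ev 14 (by norm_num) (by decide)
  have e18 := ev 18 (by norm_num) (by decide)
  have e20 := ev 20 (by norm_num) (by decide)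
  have e24 := ev 24 (by norm_num) (by decide)
  have e30 := ev 30 (by norm_num) (by decide)
  have o5 := v_odd (m := 5) hq h3 (by decide)
  have o9 := v_odd (m := 9) hq h3 (by decide)
  have w2 : padicValNat 2 2 = 1 := padicValNat.self (by norm_num)
  have pv : ∀ a b : ℕ, Odd b → padicValNat 2 (2 ^ a * b) = a := by
    intro a b hb
    rw [padicValNat.mul (by positivity) (by rintro rfl; exact absurd hb (by decide)), padicValNat.prime_pow,
      padicValNat.eq_zero_of_not_dvd (n := b) (by rw [Nat.two_dvd_ne_zero]; exact Nat.odd_iff.1 hb), add_zero]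
  have w6 : padicValNat 2 6 = 1 := pv 1 3 (by decide)
  have w8 : padicValNat 2 8 = 3 := pv 3 1 (by decide)
  have w10 : padicValNat 2 10 = 1 := pv 1 5 (by decide)
  have w12 : padicValNat 2 12 = 2 := pv 2 3 (by decide)
  have w14 : padicValNat 2 14 = 1 := pv 1 7 (by decide)
  have w18 : padicValNat 2 18 = 1 := pv 1 9 (by decide)
  have w20 : padicValNat 2 20 = 2 := pv 2 5 (by decide)
  have w24 : padicValNat 2 24 = 3 := pv 3 3 (by decide)
  have w30 : padicValNat 2 30 = 1 := pv 1 15 (by decide)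
  simp only [Yo, List.mem_cons, List.not_mem_nil, or_false] at hY
  rcases hY with rfl | rfl | rfl | rfl | rfl <;> simp only [Art.num, cf] <;> refine ⟨?_, ?_⟩ <;>
    first
    | (repeat' apply Nat.mul_ne_zero) <;> first | exact ne _ (by norm_num) | exact Nat.succ_ne_zero _
    | (repeat rw [padicValNat.mul (by (repeat' apply Nat.mul_ne_zero) <;>
        first | exact ne _ (by norm_num) | exact Nat.succ_ne_zero _)
        (by first | exact ne _ (by norm_num) | exact Nat.succ_ne_zero _)]) <;> (clear * - e2 e8 e12 e14 e18 e20 e24 e30 w2 w8 w12 w14 w18 w20 w24 w30 e6 e10 w6 w10 o5 o9; omega)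

theorem V2_of {Y : Art.Sh} (hY : Y ∈ Yo) {q w : ℕ} (hq : Odd q) (h3 : 3 ≤ q) (h : 2 ^ w ∣ q ^ Art.NN Y * Art.num Y q) :
    w ≤ (cf Y).1 * V2 q + (cf Y).2 := by
  obtain ⟨h1, h2⟩ := val_num hY hq h3
  have h4 : 2 ^ w ∣ Art.num Y q := by
    refine Nat.Coprime.dvd_of_dvd_mul_left ?_ h
    exact Nat.Coprime.pow _ _ (Nat.coprime_two_left.2 hq)
  exact ((padicValNat_dvd_iff_le h1).1 h4).trans h2

theorem dvd_of_consec {a m : ℕ} (h : 2 ^ a ∣ m * (m + 1)) : 2 ^ a ∣ m ∨ 2 ^ a ∣ m + 1 := by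
  rcases Nat.even_or_odd m with hm | hm
  · left
    refine Nat.Coprime.dvd_of_dvd_mul_right ?_ h
    exact Nat.Coprime.pow_left _ (Nat.coprime_two_left.2 hm.add_one)
  · right
    refine Nat.Coprime.dvd_of_dvd_mul_left ?_ h
    exact Nat.Coprime.pow_left _ (Nat.coprime_two_left.2 hm)

theorem pm {q k : ℕ} (hq : Odd q) (h : 2 ^ (k + 2) ∣ q ^ 2 - 1) :
    ∃ j, q = 2 ^ (k + 1) * j + 1 ∨ q + 1 = 2 ^ (k + 1) * j := by
  obtain ⟨m, rfl⟩ := hq
  have h1 : (2 * m + 1) ^ 2 - 1 = 4 * (m * (m + 1)) := by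
    have : (2 * m + 1) ^ 2 = 4 * (m * (m + 1)) + 1 := by ring
    rw [this, Nat.add_sub_cancel]
  rw [h1, show 2 ^ (k + 2) = 4 * 2 ^ k by ring] at h
  rcases dvd_of_consec (Nat.dvd_of_mul_dvd_mul_left (by norm_num) h) with ⟨j, hj⟩ | ⟨j, hj⟩
  · exact ⟨j, Or.inl (by rw [hj]; ring)⟩
  · exact ⟨j, Or.inr (by rw [show 2 * m + 1 + 1 = 2 * (m + 1) by ring, hj]; ring)⟩

/-! ### the test -/

theorem vf_dvd (r k B : ℕ) : r ^ vf r k B ∣ B := by
  induction k generalizing B with
  | zero => exact one_dvd _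
  | succ k ih =>
    rw [vf]
    split_ifs with h
    · rw [pow_succ']
      obtain ⟨c, hc⟩ := Nat.dvd_of_mod_eq_zero h
      rcases Nat.eq_zero_or_pos r with h0 | h0
      · subst h0
        rw [zero_mul] at hc
        rw [hc, zero_mul]
      · rw [hc, Nat.mul_div_cancel_left _ h0]
        exact Nat.mul_dvd_mul_left r (ih c)
    · exact one_dvd _

variable {α : Type} [DecidableEq α]

/-- the dimensions -/
def dmN : Art.Sh → ℕ
  | .E8 => 248
  | .E7 => 133
  | .E6 => 78
  | .TE6 => 78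
  | .F4 => 52
  | .TD4 => 28
  | _ => 14

/-- the values of `k` with `q` odd -/
def kodd : Art.Sh → ℕ
  | .E8 => 1000
  | .E7 => 1000
  | .E6 => 3
  | .TE6 => 3
  | .F4 => 3
  | _ => 0

/-! ### the tables -/

open Cfsg.Agent.H746.EK

/-- `Bk` with `Lc t` evaluated -/
def BkL (L t a k : ℕ) : ℕ := (1 + (L ^ k + Ik t a k) * (2 * Dk t k)) * (a ^ k * k.factorial)

theorem BkL_eq (t a k : ℕ) : BkL (Lc t) t a k = Bk t a k := rfl

theorem mem_reg_iff {n : ℕ} {X : Art.Sh} {l a : ℕ} : (X, (l, a)) ∈ reg n ↔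
    X ∈ shs ∧ (l, a) ∈ qs ∧ lb X (l ^ a) ≤ n ∧ Art.Ok X l a := by
  simp only [reg, List.mem_flatMap, List.mem_map, List.mem_filter, Bool.and_eq_true, Nat.ble_eq, decide_eq_true_eq]
  constructor
  · rintro ⟨X', h1, x, ⟨h2, h3, h4⟩, h5⟩
    obtain ⟨rfl, rfl⟩ := Prod.mk.inj h5
    exact ⟨h1, h2, h3, h4⟩
  · rintro ⟨h1, h2, h3, h4⟩
    exact ⟨X, h1, (l, a), ⟨h2, h3, h4⟩, rfl⟩

end Cfsg.Agent.H252.EN

private theorem dce_a23d504c98b3 : _root_.True := by
  try have : _root_.True := by simp only [_root_.Cfsg.Agent.H252.EN.V2.eq_1]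
  try have : _root_.True := by simp only [_root_.Cfsg.Agent.H252.EN.cf.eq_5]
  try have : _root_.True := by simp only [_root_.Cfsg.Agent.H252.EN.cf.eq_6]
  try have : _root_.True := by simp only [_root_.Cfsg.Agent.H252.EN.cf.eq_3]
  try have : _root_.True := by simp only [_root_.Cfsg.Agent.H252.EN.Yo.eq_1]
  try have : _root_.True := by simp only [_root_.Cfsg.Agent.H252.EN.cf.eq_2]
  try have : _root_.True := by simp only [_root_.Cfsg.Agent.H252.EN.cf.eq_1]
  try have : _root_.True := by simp only [_root_.Cfsg.Agent.H290.ElTab.reg.eq_1]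
  try have : _root_.True := by simp only [_root_.Cfsg.Agent.H252.EN.cf.eq_4]
  try have : _root_.True := by simp only [_root_.Cfsg.Agent.H252.EN.cf._sparseCasesOn_1.else_eq]
  exact _root_.True.intro
end

-- part: H894/EK/Rows
section
set_option linter.all false

/-!
# S5745, CrossK: the rows (socle `T ^ k`, `k ≥ 2`) left by the numerical table (helper894)

`Row P G k` : no `H` with socle `N ≅ T ^ k`, `P T`.  One structure for every family; `q` even (the rows with `q` odd die by the 2-rank, `H783.EX`).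
-/

set_option autoImplicit false

namespace Cfsg.Agent.H894.EK

open Cfsg Cfsg.Agent.OrdDiv Cfsg.Agent.H209.EPX Cfsg.Agent.H542.EPX

/-- no stabiliser with socle `T ^ k`, `P T` -/
def Row (P : ∀ (T : Type) [Group T], Prop) (G : Type) [Group G] (k : ℕ) : Prop :=
  ∀ (H N : Subgroup G) (T : Type) [Group T] (e : N ≃* (Fin k → T)), EPS H N e → P T → False

/-- `T` has the name `g` -/
abbrev Nm (g : Grp) : ∀ (T : Type) [Group T], Prop := fun T _ => OrdDiv.Real g T

/-- `E₈(2)` : `A₁₃²`, `A₁₄²` -/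
structure RowsE8 (F : Type) [Field F] [Fintype F] : Prop where
  a13 : Fintype.card F = 2 → Row (Nm (.alt 13)) ↥(Lie.chevE8.group F) 2
  a14 : Fintype.card F = 2 → Row (Nm (.alt 14)) ↥(Lie.chevE8.group F) 2

/-- `E₇(2)` : `U₃(3)³`; `E₇(4)` : `²F₄(2)'³` -/
structure RowsE7 (F : Type) [Field F] [Fintype F] : Prop where
  u33 : Fintype.card F = 2 → Row (Nm (.psu 3 3)) ↥(Lie.chevE7.group F) 3
  tits : Fintype.card F = 4 → Row (Nm .tits) ↥(Lie.chevE7.group F) 3

/-- `E₆(2)` : `U₃(3)²`, `A₇²`; `E₆(4)` : `A₁₀²`, `²F₄(2)'²` -/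
structure RowsE6 (F : Type) [Field F] [Fintype F] : Prop where
  u33 : Fintype.card F = 2 → Row (Nm (.psu 3 3)) ↥(Lie.chevE6.group F) 2
  a7 : Fintype.card F = 2 → Row (Nm (.alt 7)) ↥(Lie.chevE6.group F) 2
  a10 : Fintype.card F = 4 → Row (Nm (.alt 10)) ↥(Lie.chevE6.group F) 2
  tits : Fintype.card F = 4 → Row (Nm .tits) ↥(Lie.chevE6.group F) 2

/-- `²E₆(2)` : `U₃(3)²`, `A₇²`, `A₉²`; `²E₆(4)` : `²F₄(2)'²` -/
structure RowsTE6 (K : Type) [Field K] [Fintype K] (q : ℕ) : Prop where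
  u33 : q = 2 → Row (Nm (.psu 3 3)) ↥(Lie.twistedE6 K q) 2
  a7 : q = 2 → Row (Nm (.alt 7)) ↥(Lie.twistedE6 K q) 2
  a9 : q = 2 → Row (Nm (.alt 9)) ↥(Lie.twistedE6 K q) 2
  tits : q = 4 → Row (Nm .tits) ↥(Lie.twistedE6 K q) 2

/-- `F₄(2)` : `A₆²`, `U₃(3)²`, `A₇²`; `F₄(3)` : `Sz(8)²`; `F₄(4)` : `J₂²`, `²F₄(2)'²` -/
structure RowsF4 (F : Type) [Field F] [Fintype F] : Prop where
  a6 : Fintype.card F = 2 → Row (Nm (.alt 6)) ↥(Lie.chevF4.group F) 2
  u33 : Fintype.card F = 2 → Row (Nm (.psu 3 3)) ↥(Lie.chevF4.group F) 2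
  a7 : Fintype.card F = 2 → Row (Nm (.alt 7)) ↥(Lie.chevF4.group F) 2
  sz8 : Fintype.card F = 3 → Row (Nm (.sz 8)) ↥(Lie.chevF4.group F) 2
  j2 : Fintype.card F = 4 → Row (Nm .j2) ↥(Lie.chevF4.group F) 2
  tits : Fintype.card F = 4 → Row (Nm .tits) ↥(Lie.chevF4.group F) 2

/-- `³D₄(4)` : `A₆²` (`L₂(13)²`, `³D₄(8)`: `U₃(3)²` die by the 8-dimensional module) -/
structure RowsTD4 (K : Type) [Field K] [Fintype K] (q : ℕ) : Prop where
  a6 : q = 4 → Row (Nm (.alt 6)) ↥(Lie.twistedD4 K q) 2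

end Cfsg.Agent.H894.EK
end

-- part: H446/EPX/TF4Tab
section
set_option linter.all false
open scoped Cfsg.Agent.FastGrp

/-!
# S5745, the table of the cross cell of `²F₄(q)`, `q = 2 ^ (2 m + 1) ≥ 8` (helper446)

On helper252's `Ub` / `UB`: `reg_tf4` (names of Lie type, degree `52`), `alt_tf4` (alternating groups: only `A₁₀`, `m = 1`),
`tits_tf4` (the Tits group: only `m = 1`).
-/

set_option autoImplicit false

namespace Cfsg.Agent.H446.EPX

open Cfsg.Agent.H902 Cfsg.Agent.H290.ElReg Cfsg.Agent.H290.ElTab Cfsg.Agent.H252.EN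

set_option maxRecDepth 100000

/-- the order of `²F₄(q)` -/
def ntf (q : ℕ) : ℕ := q ^ 12 * (q - 1) * (q ^ 3 + 1) * (q ^ 4 - 1) * (q ^ 6 + 1)

theorem ntf_mono : Monotone ntf := by
  intro a b h
  simp only [ntf]
  gcongr

/-- every `m ≥ 1` below `8` is excluded or in the list, and `8` is too big -/
def tst (L : List ℕ) (t u : ℕ) : Bool :=
  ((List.range 8).all fun m => Nat.beq m 0 || L.contains m || force (ntf (2 ^ (2 * m + 1))) fun v =>
    (Nat.blt u v || !(Nat.beq (v % t) 0))) && Nat.blt u (ntf (2 ^ 17))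

/-- the test with `|T| = t`, `|H|` a divisor of `B` -/
def chkB (L : List ℕ) (t B : ℕ) : Bool := good B && force (UB B) fun u => tst L t u

theorem chkB_spec {L : List ℕ} {t B g m : ℕ} (h : chkB L t B = true) (hm : 1 ≤ m) (hg : g = ntf (2 ^ (2 * m + 1)))
    (hu : Ub B g) (hd : t ∣ g) : m ∈ L := by
  rw [chkB, Bool.and_eq_true, force_eq, tst, Bool.and_eq_true] at h
  obtain ⟨hB, h1, h2⟩ := h
  have hgu := hu.le hB
  rw [Nat.blt_eq] at h2
  have h3 : m < 8 := by
    by_contra hcon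
    push Not at hcon
    have h4 := ntf_mono (Nat.pow_le_pow_right (by norm_num : 0 < 2) (by omega : 17 ≤ 2 * m + 1))
    omega
  have h4 := List.all_eq_true.1 h1 m (List.mem_range.2 h3)
  rw [force_eq, ← hg] at h4
  simp only [Bool.or_eq_true, Nat.beq_eq, Nat.blt_eq, List.contains_iff_mem, Bool.not_eq_true'] at h4
  rcases h4 with (h4 | h4) | h4 | h4
  · omega
  · exact h4
  · omega
  · rw [Nat.mod_eq_zero_of_dvd hd] at h4
    exact absurd h4 (by decide)

/-- the test for the region -/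
def chkReg : Bool :=
  (reg 52).all fun x => Nat.beq x.2.1 2 || force (od x.1 x.2.1 x.2.2) fun t => chkB [] t (ouN x.1 x.2.1 x.2.2 * t)

private noncomputable def _root_.Cfsg.Agent.LsF.f1e5239_0 : {f // @Cfsg.Agent.H290.ElReg.lb = f} := ⟨_, by first | (delta Cfsg.Agent.H290.ElReg.lb; rewrite [Cfsg.Agent.LsF.nmul_pat, Cfsg.Agent.LsF.nsub_pat, Cfsg.Agent.LsF.ndiv_pat, Cfsg.Agent.LsF.nmod_pat, Cfsg.Agent.LsF.npow_pat, Cfsg.Agent.LsF.nmax_pat, Cfsg.Agent.LsF.instDecEq_eq, Cfsg.Agent.LsF.decLe_eq, Cfsg.Agent.LsF.ite_eq]; (try delta Cfsg.Agent.H290.ElReg.lb.match_1); (try delta Cfsg.Agent.H902.Art.Sh.casesOn); exact rfl) | exact rfl⟩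
private noncomputable def _root_.Cfsg.Agent.LsF.f1e5239_1 : {f // @Cfsg.Agent.H290.ElTab.qs = f} := ⟨_, by first | (delta Cfsg.Agent.H290.ElTab.qs; rewrite [Cfsg.Agent.LsF.nadd_pat, Cfsg.Agent.LsF.npow_pat, Cfsg.Agent.LsF.map_eq, Cfsg.Agent.LsF.flatMap_eq, Cfsg.Agent.LsF.filter_eq, Cfsg.Agent.LsF.range_eq]; exact rfl) | exact rfl⟩
private noncomputable def _root_.Cfsg.Agent.LsF.f1e5239_3 : {f // @Cfsg.Agent.H290.ElTab.reg = f} := ⟨_, by first | (delta Cfsg.Agent.H290.ElTab.reg Cfsg.Agent.H902.Art.instDecidableOk Cfsg.Agent.H902.Art.Ok; rewrite [Cfsg.Agent.LsF.f1e5239_0.2, Cfsg.Agent.LsF.f1e5239_1.2, Cfsg.Agent.LsF.npow_pat, Cfsg.Agent.LsF.and_eq, Cfsg.Agent.LsF.instDecEq_eq, Cfsg.Agent.LsF.decLe_eq, Cfsg.Agent.LsF.map_eq, Cfsg.Agent.LsF.flatMap_eq, Cfsg.Agent.LsF.filter_eq, Cfsg.Agent.LsF.dAnd_eq, Cfsg.Agent.LsF.dAllP_eq, Cfsg.Agent.LsF.decide_eq]; (try delta Cfsg.Agent.H902.Art.Ok.match_1); (try delta Cfsg.Agent.H902.Art.Sh.casesOn); exact rfl)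 | exact rfl⟩
private noncomputable def _root_.Cfsg.Agent.LsF.f1e5239_4 : {f // @Cfsg.Agent.H252.EN.force = f} := ⟨_, by first | (delta Cfsg.Agent.H252.EN.force; rewrite [Cfsg.Agent.LsF.nadd_pat]; exact rfl) | exact rfl⟩
private noncomputable def _root_.Cfsg.Agent.LsF.f1e5239_5 : {f // @Cfsg.Agent.H902.Art.NN = f} := ⟨_, by first | (delta Cfsg.Agent.H902.Art.NN; rewrite [Cfsg.Agent.LsF.nmul_pat, Cfsg.Agent.LsF.nsub_pat, Cfsg.Agent.LsF.ndiv_pat, Cfsg.Agent.LsF.npow_pat]; (try delta Cfsg.Agent.H902.Art.NN.match_1); (try delta Cfsg.Agent.H902.Art.Sh.casesOn); exact rfl) | exact rfl⟩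
private noncomputable def _root_.Cfsg.Agent.LsF.f1e5239_6 : {f // @Cfsg.Agent.H902.Art.num = f} := ⟨_, by first | (delta Cfsg.Agent.H902.Art.num; rewrite [Cfsg.Agent.LsF.nadd_pat, Cfsg.Agent.LsF.nmul_pat, Cfsg.Agent.LsF.nsub_pat, Cfsg.Agent.LsF.npow_pat, Cfsg.Agent.LsF.fprod_eq, Cfsg.Agent.LsF.frange_eq, Cfsg.Agent.LsF.ite_eq]; (try delta Cfsg.Agent.H902.Art.num.match_1); (try delta Cfsg.Agent.H902.Art.Sh.casesOn); exact rfl) | exact rfl⟩
private noncomputable def _root_.Cfsg.Agent.LsF.f1e5239_7 : {f // @Cfsg.Agent.H290.ElTab.numL = f} := ⟨_, by first | (delta Cfsg.Agent.H290.ElTab.numL; rewrite [Cfsg.Agent.LsF.f1e5239_6.2, Cfsg.Agent.LsF.nadd_pat, Cfsg.Agent.LsF.nmul_pat, Cfsg.Agent.LsF.nsub_pat, Cfsg.Agent.LsF.nmod_pat, Cfsg.Agent.LsF.npow_pat, Cfsg.Agent.LsF.instDecEq_eq, Cfsg.Agent.LsF.map_eq, Cfsg.Agent.LsF.range_eq, Cfsg.Agent.LsF.prod_eq, Cfsg.Agent.LsF.ite_eq]; (try delta Cfsg.Agent.H290.ElTab.numL.match_1); (try delta Cfsg.Agent.H290.ElTab.numL._sparseCasesOn_1);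 exact rfl) | exact rfl⟩
private noncomputable def _root_.Cfsg.Agent.LsF.f1e5239_8 : {f // @Cfsg.Agent.H902.Art.dd = f} := ⟨_, by first | (delta Cfsg.Agent.H902.Art.dd; rewrite [Cfsg.Agent.LsF.nadd_pat, Cfsg.Agent.LsF.nsub_pat, Cfsg.Agent.LsF.npow_pat]; (try delta Cfsg.Agent.H902.Art.dd.match_1); (try delta Cfsg.Agent.H902.Art.dd._sparseCasesOn_1); exact rfl) | exact rfl⟩
private noncomputable def _root_.Cfsg.Agent.LsF.f1e5239_9 : {f // @Cfsg.Agent.H252.EN.od = f} := ⟨_, by first | (delta Cfsg.Agent.H252.EN.od; rewrite [Cfsg.Agent.LsF.f1e5239_5.2, Cfsg.Agent.LsF.f1e5239_7.2, Cfsg.Agent.LsF.f1e5239_8.2, Cfsg.Agent.LsF.nmul_pat, Cfsg.Agent.LsF.ndiv_pat, Cfsg.Agent.LsF.npow_pat]; exact rfl) | exact rfl⟩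
private noncomputable def _root_.Cfsg.Agent.LsF.f1e5239_10 : {f // @Cfsg.Agent.H252.EN.vf = f} := ⟨_, by first | (delta Cfsg.Agent.H252.EN.vf Nat.brecOn.go Nat.brecOn Cfsg.Agent.H252.EN.vf._f; rewrite [Cfsg.Agent.LsF.nadd_pat, Cfsg.Agent.LsF.ndiv_pat, Cfsg.Agent.LsF.nmod_pat, Cfsg.Agent.LsF.instDecEq_eq, Cfsg.Agent.LsF.ite_eq]; (try delta Cfsg.Agent.H252.EN.vf.match_1); (try delta Nat.casesOn); first | dsimp -zeta only | exact rfl) | exact rfl⟩
private noncomputable def _root_.Cfsg.Agent.LsF.f1e5239_11 : {f // @Cfsg.Agent.H252.EN.fac = f} := ⟨_, by first | (delta Cfsg.Agent.H252.EN.fac; rewrite [Cfsg.Agent.LsF.f1e5239_10.2, Cfsg.Agent.LsF.nmod_pat, Cfsg.Agent.LsF.nbeq_pat, Cfsg.Agent.LsF.map_eq, Cfsg.Agent.LsF.filter_eq]; exact rfl) | exact rfl⟩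
private noncomputable def _root_.Cfsg.Agent.LsF.f1e5239_12 : {f // @Cfsg.Agent.H252.EN.good = f} := ⟨_, by first | (delta Cfsg.Agent.H252.EN.good; rewrite [Cfsg.Agent.LsF.f1e5239_11.2, Cfsg.Agent.LsF.npow_pat, Cfsg.Agent.LsF.nbeq_pat, Cfsg.Agent.LsF.and_eq, Cfsg.Agent.LsF.map_eq, Cfsg.Agent.LsF.prod_eq]; exact rfl) | exact rfl⟩
private noncomputable def _root_.Cfsg.Agent.LsF.f1e5239_13 : {f // @Cfsg.Agent.H252.EN.galC = f} := ⟨_, by first | (delta Cfsg.Agent.H252.EN.galC; rewrite [Cfsg.Agent.LsF.nadd_pat, Cfsg.Agent.LsF.nsub_pat, Cfsg.Agent.LsF.ndiv_pat, Cfsg.Agent.LsF.npow_pat, Cfsg.Agent.LsF.map_eq, Cfsg.Agent.LsF.range_eq, Cfsg.Agent.LsF.sum_eq, Cfsg.Agent.LsF.prod_eq]; exact rfl) | exact rfl⟩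
private noncomputable def _root_.Cfsg.Agent.LsF.f1e5239_14 : {f // @Cfsg.Agent.H252.EN.UB = f} := ⟨_, by first | (delta Cfsg.Agent.H252.EN.UB; rewrite [Cfsg.Agent.LsF.f1e5239_13.2, Cfsg.Agent.LsF.f1e5239_11.2, Cfsg.Agent.LsF.nadd_pat, Cfsg.Agent.LsF.nmul_pat, Cfsg.Agent.LsF.ndiv_pat, Cfsg.Agent.LsF.npow_pat, Cfsg.Agent.LsF.map_eq, Cfsg.Agent.LsF.sum_eq]; exact rfl) | exact rfl⟩
private noncomputable def _root_.Cfsg.Agent.LsF.f1e5239_15 : {f // @Cfsg.Agent.H446.EPX.ntf = f} := ⟨_, by first | (delta Cfsg.Agent.H446.EPX.ntf; rewrite [Cfsg.Agent.LsF.nadd_pat, Cfsg.Agent.LsF.nmul_pat, Cfsg.Agent.LsF.nsub_pat, Cfsg.Agent.LsF.npow_pat]; exact rfl) | exact rfl⟩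
private noncomputable def _root_.Cfsg.Agent.LsF.f1e5239_16 : {f // @Cfsg.Agent.H446.EPX.tst = f} := ⟨_, by first | (delta Cfsg.Agent.H446.EPX.tst; rewrite [Cfsg.Agent.LsF.f1e5239_4.2, Cfsg.Agent.LsF.f1e5239_15.2, Cfsg.Agent.LsF.nadd_pat, Cfsg.Agent.LsF.nmul_pat, Cfsg.Agent.LsF.nmod_pat, Cfsg.Agent.LsF.npow_pat, Cfsg.Agent.LsF.instNBEq_pat, Cfsg.Agent.LsF.and_eq, Cfsg.Agent.LsF.or_eq, Cfsg.Agent.LsF.not_eq, Cfsg.Agent.LsF.all_eq, Cfsg.Agent.LsF.contains_eq, Cfsg.Agent.LsF.range_eq]; exact rfl) | exact rfl⟩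
private noncomputable def _root_.Cfsg.Agent.LsF.f1e5239_17 : {f // @Cfsg.Agent.H446.EPX.chkB = f} := ⟨_, by first | (delta Cfsg.Agent.H446.EPX.chkB; rewrite [Cfsg.Agent.LsF.f1e5239_12.2, Cfsg.Agent.LsF.f1e5239_4.2, Cfsg.Agent.LsF.f1e5239_14.2, Cfsg.Agent.LsF.f1e5239_16.2, Cfsg.Agent.LsF.and_eq]; exact rfl) | exact rfl⟩
private noncomputable def _root_.Cfsg.Agent.LsF.f1e5239_18 : {f // @Cfsg.Agent.H252.EN.ouN = f} := ⟨_, by first | (delta Cfsg.Agent.H252.EN.ouN; rewrite [Cfsg.Agent.LsF.nadd_pat, Cfsg.Agent.LsF.nmul_pat, Cfsg.Agent.LsF.nsub_pat, Cfsg.Agent.LsF.npow_pat, Cfsg.Agent.LsF.instDecEq_eq, Cfsg.Agent.LsF.dAnd_eq, Cfsg.Agent.LsF.ite_eq]; (try delta Cfsg.Agent.H252.EN.ouN.match_1); (try delta Cfsg.Agent.H902.Art.Sh.casesOn); exact rfl) | exact rfl⟩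
private noncomputable def _root_.Cfsg.Agent.LsF.f1e5239_19 : {f // @Cfsg.Agent.H446.EPX.chkReg = f} := ⟨_, by first | (delta Cfsg.Agent.H446.EPX.chkReg; rewrite [Cfsg.Agent.LsF.f1e5239_3.2, Cfsg.Agent.LsF.f1e5239_4.2, Cfsg.Agent.LsF.f1e5239_9.2, Cfsg.Agent.LsF.f1e5239_17.2, Cfsg.Agent.LsF.f1e5239_18.2, Cfsg.Agent.LsF.nmul_pat, Cfsg.Agent.LsF.or_eq, Cfsg.Agent.LsF.all_eq]; exact rfl) | exact rfl⟩
theorem chkReg_true : chkReg = true := by ((try (rewrite [Cfsg.Agent.LsF.f1e5239_19.2])); decide +kernel)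

/-- the test for the alternating groups of degree at most `16` -/
def chkAlt : Bool :=
  (List.range 17).all fun n => Nat.blt n 5 || chkB (if n = 10 then [1] else []) (n.factorial / 2) (autA n)

private noncomputable def _root_.Cfsg.Agent.LsF.f1e5239_20 : {f // @Nat.factorial = f} := ⟨_, by first | (delta Nat.factorial Nat.brecOn.go Nat.brecOn Nat.factorial._f; rewrite [Cfsg.Agent.LsF.nmul_pat]; (try delta Nat.factorial.match_1); (try delta Nat.casesOn); first | dsimp -zeta only | exact rfl) | exact rfl⟩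
private noncomputable def _root_.Cfsg.Agent.LsF.f1e5239_21 : {f // @Cfsg.Agent.H252.EN.autA = f} := ⟨_, by first | (delta Cfsg.Agent.H252.EN.autA; rewrite [Cfsg.Agent.LsF.f1e5239_20.2, Cfsg.Agent.LsF.instDecEq_eq, Cfsg.Agent.LsF.ite_eq]; exact rfl) | exact rfl⟩
private noncomputable def _root_.Cfsg.Agent.LsF.f1e5239_22 : {f // @Cfsg.Agent.H446.EPX.chkAlt = f} := ⟨_, by first | (delta Cfsg.Agent.H446.EPX.chkAlt; rewrite [Cfsg.Agent.LsF.f1e5239_17.2, Cfsg.Agent.LsF.f1e5239_20.2, Cfsg.Agent.LsF.f1e5239_21.2, Cfsg.Agent.LsF.ndiv_pat, Cfsg.Agent.LsF.or_eq, Cfsg.Agent.LsF.instDecEq_eq, Cfsg.Agent.LsF.all_eq, Cfsg.Agent.LsF.range_eq, Cfsg.Agent.LsF.ite_eq]; exact rfl) | exact rfl⟩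
theorem chkAlt_true : chkAlt = true := by ((try (rewrite [Cfsg.Agent.LsF.f1e5239_22.2])); decide +kernel)

theorem reg_tf4 {X : Art.Sh} {l a t m g : ℕ} (hT : Art.Real X l a t) (hr : (X, (l, a)) ∈ reg 52) (hl : l ≠ 2)
    (hm : 1 ≤ m) (hg : g = ntf (2 ^ (2 * m + 1))) (hu : Ub (ouN X l a * t) g) (hd : t ∣ g) : False := by
  have h1 := List.all_eq_true.1 chkReg_true _ hr
  rw [force_eq, ← real_eq hT, Bool.or_eq_true, Nat.beq_eq] at h1
  rcases h1 with h1 | h1
  · exact hl h1
  · exact absurd (chkB_spec h1 hm hg hu hd) List.not_mem_nil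

/-- `17` does not divide `|²F₄(q)|` -/
theorem not_dvd {m : ℕ} : ¬ 17 ∣ ntf (2 ^ (2 * m + 1)) := by
  have h2 : (2 : ℕ) ^ (2 * m + 1) % 17 = 2 * 4 ^ (m % 4) % 17 := by
    have h3 : m = 4 * (m / 4) + m % 4 := (Nat.div_add_mod m 4).symm
    have h4 : (2 : ℕ) ^ (2 * m + 1) = 256 ^ (m / 4) * (2 * 4 ^ (m % 4)) := by
      conv_lhs => rw [h3]
      rw [show (4 : ℕ) = 2 ^ 2 by norm_num, show (256 : ℕ) = 2 ^ 8 by norm_num, ← pow_mul, ← pow_mul, ← pow_succ',
        ← pow_add]
      congr 1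
      ring
    rw [h4, Nat.mul_mod, Nat.pow_mod]
    norm_num
  intro h
  have h5 : 1 ≤ 2 ^ (2 * m + 1) := Nat.one_le_two_pow
  have key : ∀ q : ℕ, 1 ≤ q → 17 ∣ ntf q → 17 ∣ ntf (q % 17) ∨ q % 17 = 0 := by
    intro q hq hd
    by_cases h0 : q % 17 = 0
    · exact Or.inr h0
    left
    have hq0 : 1 ≤ q % 17 := by omega
    have e1 : (q - 1) ≡ (q % 17 - 1) [MOD 17] := by
      unfold Nat.ModEq
      omega
    have e0 : q ≡ q % 17 [MOD 17] := (Nat.mod_modEq q 17).symm
    have e4 : (q ^ 4 - 1) ≡ ((q % 17) ^ 4 - 1) [MOD 17] := by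
      have h6 : q ^ 4 ≡ (q % 17) ^ 4 [MOD 17] := e0.pow 4
      have h7 : 1 ≤ q ^ 4 := Nat.one_le_pow _ _ hq
      have h8 : 1 ≤ (q % 17) ^ 4 := Nat.one_le_pow _ _ hq0
      unfold Nat.ModEq at h6 ⊢
      omega
    have h9 : ntf q ≡ ntf (q % 17) [MOD 17] := by
      unfold ntf
      exact ((((e0.pow 12).mul e1).mul ((e0.pow 3).add_right 1)).mul e4).mul ((e0.pow 6).add_right 1)
    exact (h9.dvd_iff (dvd_refl 17)).1 hd
  have h6 := key _ h5 h
  rw [h2] at h6
  have h7 : m % 4 < 4 := Nat.mod_lt _ (by norm_num)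
  interval_cases m % 4 <;> revert h6 <;> decide +kernel

theorem alt_tf4 {n t m g : ℕ} (h5 : 5 ≤ n) (ht : 2 * t = n.factorial) (hm : 1 ≤ m) (hg : g = ntf (2 ^ (2 * m + 1)))
    (hu : Ub (autA n) g) (hd : t ∣ g) : n = 10 ∧ m = 1 := by
  have hn : n ≤ 16 := by
    by_contra hcon
    push Not at hcon
    have h1 : 17 ∣ n.factorial := Nat.dvd_factorial (by norm_num) (by omega)
    rw [← ht] at h1
    have h2 : 17 ∣ t := (Nat.Coprime.dvd_mul_left (by decide : Nat.Coprime 17 2)).1 h1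
    exact not_dvd (m := m) (hg ▸ h2.trans hd)
  have h1 := List.all_eq_true.1 chkAlt_true n (List.mem_range.2 (by omega))
  rw [Bool.or_eq_true, Nat.blt_eq, show n.factorial / 2 = t by omega] at h1
  rcases h1 with h1 | h1
  · omega
  have h2 := chkB_spec h1 hm hg hu hd
  by_cases hn : n = 10
  · rw [if_pos hn] at h2
    exact ⟨hn, by simpa using h2⟩
  · rw [if_neg hn] at h2
    exact absurd h2 List.not_mem_nil

end Cfsg.Agent.H446.EPX

private theorem dce_8e4cec134f1d : _root_.True := by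
  try have : _root_.True := by simp only [_root_.Cfsg.Agent.H446.EPX.tst.eq_1]
  try have : _root_.True := by simp only [_root_.Cfsg.Agent.H446.EPX.ntf.eq_1]
  try have : _root_.True := by simp only [_root_.Cfsg.Agent.H446.EPX.chkB.eq_1]
  exact _root_.True.intro
end
end
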